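import Groth.Agent.Sga4h.H222.ThetaLam
import Groth.Prelude.Def_FinFr

/-!
# `Λ`-sheaves of locally constant functions

* `IsoLam L L'`: `Λ`-linear isomorphism of étale sheaves of `Λ`-modules; transport along functors.
* `lcLam X M`: the `Λ`-sheaf of locally constant functions with values in a `Λ`-module `M`;
  `constLam_iso`: `FinFr.constLam Λ X` is isomorphic to `lcLam X Λ`.
-/

set_option autoImplicit false
set_option linter.unusedVariables false
universe u w
open CategoryTheory CategoryTheory.Limits AlgebraicGeometry Opposite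

namespace Groth.Agent.Sga4h.H222.LamLC

open Groth.Agent.Sga4B.ConstLC Groth.Agent.Sga4h.H222.ThetaLam

section iso

variable {Λ : Type} [CommRing Λ] {X Y : Scheme.{u}}

/-- `Λ`-linear isomorphism of sheaves. -/
def IsoLam (L L' : EtLam.Sheaf Λ X) : Prop :=
  ∃ e : L.carrier ≅ L'.carrier, ∀ r : Λ, L.act r ≫ e.hom = e.hom ≫ L'.act r

theorem IsoLam.refl (L : EtLam.Sheaf Λ X) : IsoLam L L :=
  ⟨Iso.refl _, fun r => by rw [Iso.refl_hom, Category.comp_id, Category.id_comp]⟩

theorem IsoLam.symm {L L' : EtLam.Sheaf Λ X} (h : IsoLam L L') : IsoLam L' L := by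
  obtain ⟨e, he⟩ := h
  exact ⟨e.symm, fun r => by
    rw [Iso.symm_hom, Iso.comp_inv_eq, Category.assoc, he, Iso.inv_hom_id_assoc]⟩

theorem IsoLam.trans {L L' L'' : EtLam.Sheaf Λ X} (h : IsoLam L L') (h' : IsoLam L' L'') :
    IsoLam L L'' := by
  obtain ⟨e, he⟩ := h
  obtain ⟨e', he'⟩ := h'
  exact ⟨e ≪≫ e', fun r => by
    rw [Iso.trans_hom, ← Category.assoc, he, Category.assoc, he', Category.assoc]⟩

theorem IsoLam.push {L L' : EtLam.Sheaf Λ X} (h : IsoLam L L') (f : X ⟶ Y) :
    IsoLam (EtLam.pushforward f L) (EtLam.pushforward f L') := by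
  obtain ⟨e, he⟩ := h
  refine ⟨(EtCoh.push f).mapIso e, fun r => ?_⟩
  change (EtCoh.push f).map (L.act r) ≫ (EtCoh.push f).map e.hom =
    (EtCoh.push f).map e.hom ≫ (EtCoh.push f).map (L'.act r)
  rw [← Functor.map_comp, he, Functor.map_comp]

theorem IsoLam.pull {L L' : EtLam.Sheaf Λ Y} (h : IsoLam L L') (f : X ⟶ Y) :
    IsoLam (EtLam.pullback f L) (EtLam.pullback f L') := by
  obtain ⟨e, he⟩ := h
  refine ⟨(EtCoh.pull f).mapIso e, fun r => ?_⟩
  change (EtCoh.pull f).map (L.act r) ≫ (EtCoh.pull f).map e.hom =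
    (EtCoh.pull f).map e.hom ≫ (EtCoh.pull f).map (L'.act r)
  rw [← Functor.map_comp, he, Functor.map_comp]

end iso

section lc

variable {Λ : Type} [CommRing Λ] (X : Scheme.{u}) (M : Type) [AddCommGroup M] [Module Λ M]

/-- Functoriality of `LC` in the group. -/
noncomputable def lcMap {A B : Type (u + 1)} [AddCommGroup A] [AddCommGroup B] (φ : A →+ B) :
    LC X A ⟶ LC X B where
  hom :=
    { app := fun U => AddCommGrpCat.ofHom
        { toFun := fun (f : LocallyConstant U.unop.left A) => (f.map φ : LocallyConstant U.unop.left B)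
          map_zero' := LocallyConstant.ext fun _ => map_zero φ
          map_add' := fun _ _ => LocallyConstant.ext fun _ => map_add φ _ _ }
      naturality := fun U V β => by
        ext f
        rfl }

theorem lcMap_app {A B : Type (u + 1)} [AddCommGroup A] [AddCommGroup B] (φ : A →+ B) (U : X.Etale)
    (f : LocallyConstant U.left A) (x : U.left) :
    DFunLike.coe (F := LocallyConstant U.left B) ((lcMap X φ).hom.app (op U) f) x = φ (f x) := rfl

theorem lc_hom_ext {F : EtCoh.Ab X} {A : Type (u + 1)} [AddCommGroup A] {α β : F ⟶ LC X A}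
    (h : ∀ (U : X.Etale) (s : F.obj.obj (op U)) (x : U.left),
      DFunLike.coe (F := LocallyConstant U.left A) (α.hom.app (op U) s) x =
        DFunLike.coe (F := LocallyConstant U.left A) (β.hom.app (op U) s) x) : α = β := by
  ext U s
  exact LocallyConstant.ext fun x => h U.unop s x

variable (Λ) in
/-- The `Λ`-sheaf of locally constant functions with values in a `Λ`-module. -/
noncomputable def lcLam : EtLam.Sheaf Λ X where
  carrier := LC X (ULift.{u + 1} M)
  act :=
    { toFun := fun r => lcMap X (ulMap (r • (LinearMap.id : M →ₗ[Λ] M)))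
      map_one' := lc_hom_ext X fun U s x => ULift.down_injective (one_smul Λ _)
      map_mul' := fun r r' => lc_hom_ext X fun U s x => ULift.down_injective (mul_smul r r' _)
      map_zero' := lc_hom_ext X fun U s x => ULift.down_injective (zero_smul Λ _)
      map_add' := fun r r' => lc_hom_ext X fun U s x => ULift.down_injective (add_smul r r' _) }

theorem constToLC_natural {A B : Type (u + 1)} [AddCommGroup A] [AddCommGroup B] (φ : A →+ B) :
    (constantSheaf X.smallEtaleTopology AddCommGrpCat.{u + 1}).map (AddCommGrpCat.ofHom φ) ≫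
      constToLC X B = constToLC X A ≫ lcMap X φ := by
  let adj := sheafificationAdjunction X.smallEtaleTopology AddCommGrpCat.{u + 1}
  let φ' : (Functor.const X.Etaleᵒᵖ).obj (AddCommGrpCat.of A) ⟶
    (Functor.const X.Etaleᵒᵖ).obj (AddCommGrpCat.of B) :=
    (Functor.const X.Etaleᵒᵖ).map (AddCommGrpCat.ofHom φ)
  apply (adj.homEquiv ((Functor.const X.Etaleᵒᵖ).obj (AddCommGrpCat.of A)) (LC X B)).injective
  have h1 : adj.homEquiv _ _ (constToLC X A) = constPreToLC X A := Equiv.apply_symm_apply _ _
  have h2 : adj.homEquiv _ _ (constToLC X B) = constPreToLC X B := Equiv.apply_symm_apply _ _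
  refine (adj.homEquiv_naturality_left φ' (constToLC X B)).trans ?_
  refine Eq.trans ?_ (adj.homEquiv_naturality_right (constToLC X A) (lcMap X φ)).symm
  rw [h1, h2]
  rfl

theorem constLam_iso : IsoLam (FinFr.constLam Λ X) (lcLam Λ X Λ) := by
  refine ⟨constIso X Λ, fun r => ?_⟩
  exact constToLC_natural X (DistribSMul.toAddMonoidHom (ULift.{u + 1} Λ) r)

end lc

end Groth.Agent.Sga4h.H222.LamLC
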