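import Groth.Agent.Sga4h.H222.Tors
import Groth.Agent.Sga4h.H222.LamLC
import Groth.Agent.Sga5.H851.ConstW
import Mathlib.Algebra.Module.Shrink

/-!
# Sheaves trivialised by a connected torsor

`q : W ⟶ U` a torsor under `Γ`, `W` connected, `L` an étale sheaf of `Λ`-modules on `U` whose underlying sheaf becomes
constant on `W` with finite value: `L` is the sheaf attached to a representation of `Γ` on a finite `Λ`-module.
-/

set_option autoImplicit false
set_option linter.unusedVariables false
set_option linter.unusedSectionVars false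
universe u w w'
open CategoryTheory CategoryTheory.Limits AlgebraicGeometry Opposite

namespace Groth.Agent.Sga4h.H222.EssImage

open Groth.Agent.Sga4B.ConstLC Groth.Agent.Sga5.H851.FunSheaf Groth.Agent.Sga5.H851
  Groth.Agent.Sga4h.H222.ThetaLam Groth.Agent.Sga4h.H222.LamLC Groth.Agent.Sga4h.H222.Tors
  Groth.Agent.Pi1.H416.PrincDesc

variable {U W : Scheme.{u}} {q : W ⟶ U} {Γ : Type w} [Group Γ] {ρ : Γ →* Aut W} (H : IsTors q ρ)
  {Λ : Type} [CommRing Λ] (L : EtLam.Sheaf Λ U)

/-- The action on the étale site. -/
noncomputable def act (g : Γ) : H.obj ⟶ H.obj :=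
  MorphismProperty.Over.homMk (ρ g).hom (H.inv g) trivial

/-- The identity, as a morphism from the étale `U`-scheme. -/
abbrev idW : H.obj.left ⟶ W := 𝟙 W

theorem act_comp (g : Γ) : (act H g).left ≫ idW H = idW H ≫ (ρ g).hom :=
  (Category.comp_id (ρ g).hom).trans (Category.id_comp (ρ g).hom).symm

theorem idW_q : idW H ≫ q = H.obj.hom := Category.id_comp q

instance isOI : IsOpenImmersion (idW H) := inferInstanceAs (IsOpenImmersion (𝟙 W))

theorem range_id : Set.range (idW H) = (∅ : Set W)ᶜ := by
  rw [Set.compl_empty, Set.eq_univ_iff_forall]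
  exact fun x => ⟨x, rfl⟩

/-- The sections over the torsor. -/
abbrev M₀ : Type (u + 1) := L.carrier.obj.obj (op H.obj)

/-- The `Λ`-module of sections over the torsor. -/
noncomputable instance module₀ : Module Λ (M₀ H L) where
  smul r x := (L.act r).hom.app (op H.obj) x
  one_smul x := by
    change (L.act 1).hom.app (op H.obj) x = x
    rw [map_one]
    rfl
  mul_smul r r' x := by
    change (L.act (r * r')).hom.app (op H.obj) x = (L.act r).hom.app (op H.obj) ((L.act r').hom.app (op H.obj) x)
    rw [map_mul]
    rfl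
  smul_zero r := map_zero _
  smul_add r x y := map_add _ x y
  add_smul r r' x := by
    change (L.act (r + r')).hom.app (op H.obj) x =
      (L.act r).hom.app (op H.obj) x + (L.act r').hom.app (op H.obj) x
    rw [map_add]
    rfl
  zero_smul x := by
    change (L.act 0).hom.app (op H.obj) x = 0
    rw [map_zero]
    rfl

theorem smul_def₀ (r : Λ) (x : M₀ H L) : r • x = (L.act r).hom.app (op H.obj) x := rfl

theorem map_act {V V' : U.Etale} (β : V' ⟶ V) (r : Λ) (s : L.carrier.obj.obj (op V)) :
    L.carrier.obj.map β.op ((L.act r).hom.app (op V) s) = (L.act r).hom.app (op V') (L.carrier.obj.map β.op s) :=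
  (NatTrans.naturality_apply (L.act r).hom β.op s).symm

variable (hF : Recog.ConstOn L.carrier H.obj)

/-- The group action on the sections. -/
noncomputable abbrev aF : Γ →* AddMonoid.End (M₀ H L) :=
  Recog.actF (t := idW H) L.carrier (act H) (act_comp H)

theorem aF_smul (g : Γ) (r : Λ) (x : M₀ H L) : aF H L g (r • x) = r • aF H L g x :=
  map_act L (act H g⁻¹) r x

include H in
theorem zeroOn : Recog.ZeroOn q ∅ L.carrier := by
  intro V v h s
  obtain ⟨w, hw⟩ := H.surj.surj (V.hom v)
  obtain ⟨z, hz, -⟩ := Scheme.Pullback.exists_preimage_pullback (f := V.hom) (g := q) v w hw.symm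
  exact absurd (h z hz) (Set.notMem_empty _)

/-- The comparison map. -/
noncomputable def eta : L.carrier ⟶ Theta.Theta q ρ H.inv ∅ (aF H L) :=
  Recog.η H.inv (idW_q H) (range_id H) (act H) (act_comp H) hF (zeroOn H L)
    (fun _ _ _ h => absurd h (Set.notMem_empty _)) (fun _ _ h => absurd h (Set.notMem_empty _))

theorem isIso_eta : IsIso (eta H L hF) :=
  Recog.isIso_η (idW_q H) (range_id H) (act H) (act_comp H) hF (zeroOn H L)
    (fun _ _ _ h => absurd h (Set.notMem_empty _)) (fun _ _ h => absurd h (Set.notMem_empty _)) H.isRam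

theorem eta_act {V : U.Etale} (r : Λ) (s : L.carrier.obj.obj (op V)) (z : P q V) :
    (Theta.toSec q ρ H.inv ∅ (aF H L) ((eta H L hF).hom.app (op V) ((L.act r).hom.app (op V) s))).1 z =
      r • (Theta.toSec q ρ H.inv ∅ (aF H L) ((eta H L hF).hom.app (op V) s)).1 z := by
  have h1 := Recog.val_spec (idW_q H) (range_id H) hF s z (Set.notMem_empty _)
  obtain ⟨V', δ, β, v, h2, h3⟩ := h1
  refine Recog.val_eq (idW_q H) (range_id H) hF ⟨V', δ, β, v, h2, ?_⟩
  rw [map_act, h3]
  exact (map_act L β r _).symm

section small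

variable [Finite (M₀ H L)]

/-- The `Λ`-module in `Type`. -/
abbrev MM : Type := Shrink.{0} (M₀ H L)

/-- The linear equivalence. -/
noncomputable abbrev eM : MM H L ≃ₗ[Λ] M₀ H L := (equivShrink.{0} (M₀ H L)).symm.linearEquiv Λ

/-- The representation. -/
noncomputable def σM : Representation Λ Γ (MM H L) where
  toFun g := (eM H L).symm.toLinearMap ∘ₗ
    { toFun := aF H L g
      map_add' := map_add (aF H L g)
      map_smul' := fun r x => aF_smul H L g r x } ∘ₗ (eM H L).toLinearMap
  map_one' := by
    refine LinearMap.ext fun x => ?_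
    change (eM H L).symm (aF H L 1 (eM H L x)) = x
    rw [map_one]
    exact (eM H L).symm_apply_apply x
  map_mul' g h := by
    refine LinearMap.ext fun x => ?_
    change (eM H L).symm (aF H L (g * h) (eM H L x)) =
      (eM H L).symm (aF H L g (eM H L ((eM H L).symm (aF H L h (eM H L x)))))
    rw [map_mul, LinearEquiv.apply_symm_apply]
    rfl

theorem σM_apply (g : Γ) (x : MM H L) : σM H L g x = (eM H L).symm (aF H L g (eM H L x)) := rfl

/-- The comparison of coefficients. -/
noncomputable def toMM : M₀ H L →+ ULift.{u + 1} (MM H L) where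
  toFun x := ⟨(eM H L).symm x⟩
  map_zero' := congrArg ULift.up (map_zero _)
  map_add' x y := congrArg ULift.up (map_add _ x y)

/-- The comparison of coefficients. -/
noncomputable def ofMM : ULift.{u + 1} (MM H L) →+ M₀ H L where
  toFun x := eM H L x.down
  map_zero' := map_zero _
  map_add' x y := map_add _ _ _

theorem toMM_act (g : Γ) (x : M₀ H L) : toMM H L (aF H L g x) = ulAct (σM H L) g (toMM H L x) := by
  refine ULift.down_injective ?_
  change (eM H L).symm (aF H L g x) = σM H L g ((eM H L).symm x)
  rw [σM_apply, LinearEquiv.apply_symm_apply]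

theorem ofMM_act (g : Γ) (x : ULift.{u + 1} (MM H L)) :
    ofMM H L (ulAct (σM H L) g x) = aF H L g (ofMM H L x) := by
  change eM H L (σM H L g x.down) = aF H L g (eM H L x.down)
  rw [σM_apply, LinearEquiv.apply_symm_apply]

/-- Change of coefficients. -/
noncomputable def isoMM : Theta.Theta q ρ H.inv ∅ (aF H L) ≅ Th q ρ H.inv (σM H L) where
  hom := Theta.map q ρ H.inv ∅ (aF H L) (ulAct (σM H L)) (toMM H L) (toMM_act H L)
  inv := Theta.map q ρ H.inv ∅ (ulAct (σM H L)) (aF H L) (ofMM H L) (ofMM_act H L)
  hom_inv_id := Theta.hom_ext' q ρ H.inv ∅ (aF H L) fun V s z => by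
    exact (eM H L).apply_symm_apply _
  inv_hom_id := Theta.hom_ext' q ρ H.inv ∅ (ulAct (σM H L)) fun V s z => by
    exact congrArg ULift.up ((eM H L).symm_apply_apply _)

include hF in
theorem iso_σM : IsoLam L (thetaLam q ρ H.inv (σM H L)) := by
  have h := isIso_eta H L hF
  refine ⟨@asIso _ _ _ _ (eta H L hF) h ≪≫ isoMM H L, fun r => ?_⟩
  refine ThetaLam.hom_ext q ρ H.inv (σM H L) fun V s z => ?_
  have h1 := congrArg (eM H L).symm (eta_act H L hF (V := V) r s z)
  rw [map_smul] at h1
  exact h1

end small

section finite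

variable {A : Type} [AddCommGroup A] (e : (EtCoh.pull q).obj L.carrier ≅ EtCoh.const W A)

/-- The restriction is locally constant functions. -/
noncomputable def eRestr : (EtShriek.restrAlong H.obj.hom).obj L.carrier ≅ LC H.obj.left (ULift.{u + 1} A) :=
  haveI := H.et
  ((EtpbcA.OverSite.pullIsoRestr q).app L.carrier).symm ≪≫ e ≪≫ constIso W A

include e in
theorem constOn [hc : ConnectedSpace W] : Recog.ConstOn L.carrier H.obj := by
  have hc' : ConnectedSpace H.obj.left := hc
  exact ConstW.constOn_of_restr (eRestr H L e)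

include e in
theorem finite_M₀ [hc : ConnectedSpace W] [Finite A] : Finite (M₀ H L) := by
  have h1 := ConstW.ψ_bijective (eRestr H L e) (EtCoh.top H.obj.left)
  have h2 : Finite (LocallyConstant (EtCoh.top H.obj.left).left (ULift.{u + 1} A)) := by
    have hc' : PreconnectedSpace (EtCoh.top H.obj.left).left := hc.toPreconnectedSpace
    obtain ⟨x⟩ : Nonempty (EtCoh.top H.obj.left).left := hc.toNonempty
    refine Finite.of_injective (fun f => f x) fun f g hfg => ?_
    apply LocallyConstant.ext
    intro y
    have h4 := f.isLocallyConstant.apply_eq_of_isPreconnected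
        isPreconnected_univ (Set.mem_univ y) (Set.mem_univ x)
    have h5 := g.isLocallyConstant.apply_eq_of_isPreconnected
        isPreconnected_univ (Set.mem_univ y) (Set.mem_univ x)
    exact h4.trans (hfg.trans h5.symm)
  have h3 : Finite (L.carrier.obj.obj (op ((EtShriek.compEtale H.obj.hom).obj (EtCoh.top H.obj.left)))) :=
    Finite.of_injective _ h1.1
  refine Finite.of_injective (fun x => L.carrier.obj.map (ConstW.κtop H.obj).hom.op x) fun x y hxy => ?_
  have h4 := congrArg (fun x => L.carrier.obj.map (ConstW.κtop H.obj).inv.op x) hxy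
  simp only [← Recog.map_comp_apply', Iso.inv_hom_id, op_id, L.carrier.obj.map_id] at h4
  exact h4

end finite

/-- **Sheaves trivialised by a connected torsor come from representations.** -/
theorem exists_rep [ConnectedSpace W] (A : Type) [AddCommGroup A] [Finite A]
    (e : (EtCoh.pull q).obj L.carrier ≅ EtCoh.const W A) :
    ∃ (M : Type) (_ : AddCommGroup M) (_ : Module Λ M) (_ : Finite M) (σ : Representation Λ Γ M),
      IsoLam L (thetaLam q ρ H.inv σ) := by
  have := finite_M₀ H L e
  exact ⟨MM H L, inferInstance, inferInstance, Finite.of_equiv _ (eM H L).toEquiv.symm, σM H L,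
    iso_σM H L (constOn H L e)⟩

end Groth.Agent.Sga4h.H222.EssImage
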