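import Groth.Agent.Sga4h.H222.Tors
import Groth.Agent.Sga5.H833.GalCover
import Groth.Agent.Pi1.H383.GalPrinc

/-!
# Connected Galois covers trivialising a finite locally constant sheaf
-/

set_option autoImplicit false
set_option linter.unusedVariables false
universe u w w'
open CategoryTheory CategoryTheory.Limits AlgebraicGeometry Opposite

namespace Groth.Agent.Sga4h.H222.GalCov

open Groth.Agent.Sga5.H833.GalConn Groth.Agent.Etbase Groth.Agent.Etcore Groth.Agent.EtpbcA
  Groth.Agent.EtpbcA.ConsVan Groth.Agent.Sga5.FlcClopen Groth.Agent.Sga5.FlcCover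
  Groth.Agent.Sga5.H833.GalCover Groth.Agent.Sga4h.H222.Tors PreGaloisCategory
  Groth.Agent.Pi1B.FEtFibre Groth.Agent.Pi1B.FEtPreGalois

variable {U : Scheme.{u}}

attribute [local instance] galoisCategory

/-- The action of the automorphism group. -/
noncomputable def rhoA (A : FEt.Cat U) : Aut A →* Aut A.left :=
  Functor.mapAut A (MorphismProperty.Over.forget FEt.prop ⊤ U ⋙ Over.forget U)

theorem isTors_of_isGalois [ConnectedSpace U] (A : FEt.Cat U) [PreGaloisCategory.IsGalois A] :
    IsTors A.hom (rhoA A) where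
  inv g := MorphismProperty.Over.w g.hom
  fin := A.prop.1
  et := A.prop.2
  surj := by
    have hc : ConnectedSpace A.left := connectedSpace_left A
    exact surjective_hom A
  simple Ω _ _ s t h := by
    have hc : ConnectedSpace A.left := connectedSpace_left A
    let η : Spec (CommRingCat.of Ω) ⟶ U := s ≫ A.hom
    obtain ⟨φ, hφ⟩ := evaluation_aut_surjective_of_isGalois (fiberF η) A
      (⟨s, rfl⟩ : FEt.fiberObj η A) (⟨t, h.symm⟩ : FEt.fiberObj η A)
    have hφ' : s ≫ φ.hom.left = t := congrArg Subtype.val hφ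
    refine ⟨φ, hφ', fun τ hτ => ?_⟩
    exact Iso.ext (Groth.Agent.Pi1.H383.GalPrinc.hom_ext_of_point A τ.hom φ.hom s
      (Eq.trans hτ hφ'.symm))

/-- **A finite locally constant sheaf on a connected scheme becomes constant on a connected Galois cover.** -/
theorem exists_tors [ConnectedSpace U] (F : EtCoh.Ab U) (hF : EtCoh.IsFiniteLocallyConstant F) :
    ∃ (V : Scheme.{u}) (_ : ConnectedSpace V) (q : V ⟶ U) (G : Type u) (_ : Group G) (_ : Finite G)
      (ρ : G →* Aut V), IsTors q ρ ∧ ∃ (N : Type) (_ : AddCommGroup N) (_ : Finite N),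
        Nonempty ((EtCoh.pull q).obj F ≅ EtCoh.const V N) := by
  obtain ⟨x⟩ := (inferInstance : Nonempty U)
  obtain ⟨T, hT, t, -, M, _, _, φ, hφ⟩ := exists_at hF x
  obtain ⟨A, a, hA⟩ := exists_galois (fet T hT) t
  have hc : ConnectedSpace A.left := connectedSpace_left A
  have hfin : IsFinite A.hom := A.prop.1
  have het : AlgebraicGeometry.Etale A.hom := A.prop.2
  have hs : Surjective A.hom := surjective_hom A
  refine ⟨A.left, hc, A.hom, Aut A, inferInstance, inferInstance, rhoA A, isTors_of_isGalois A, M, inferInstance,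
    inferInstance, ?_⟩
  have hb : ∀ y, BijAt F (resHom (etHom a) φ) y := fun y => (bijAt_res_iff (etHom a) y φ).2 (hφ _)
  exact (OverSite2.restr_iso_const_iff (et A) F _).1 (ConsFLC.nonempty_iso_const _ hb)

end Groth.Agent.Sga4h.H222.GalCov
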