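import Groth.Agent.Sga4h.H222.Tors
import Groth.Agent.Sga4h.H222.LamLC

/-!
# Inflation

`r : W' ⟶ W` a surjective morphism of torsors over `U`, equivariant for a surjection `ψ : Γ' →* Γ`: the sheaf
attached to `σ` on `W` is isomorphic to the sheaf attached to `σ.comp ψ` on `W'`.
-/

set_option autoImplicit false
set_option linter.unusedVariables false
universe u w w'
open CategoryTheory CategoryTheory.Limits AlgebraicGeometry Opposite

namespace Groth.Agent.Sga4h.H222.Infl

open Groth.Agent.Sga4B.ConstLC Groth.Agent.Sga5.H851.FunSheaf Groth.Agent.Sga5.H851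
  Groth.Agent.Sga4h.H222.ThetaLam Groth.Agent.Sga4h.H222.LamLC Groth.Agent.Sga4h.H222.Tors
  Groth.Agent.Pi1.H416.PrincDesc

variable {U W W' : Scheme.{u}} {q : W ⟶ U} {Γ : Type w} [Group Γ] {ρ : Γ →* Aut W} (H : IsTors q ρ)
  {q' : W' ⟶ U} {Γ' : Type w'} [Group Γ'] {ρ' : Γ' →* Aut W'} (H' : IsTors q' ρ')
  (r : W' ⟶ W) (hr : r ≫ q = q') (ψ : Γ' →* Γ) (hψ : ∀ g, (ρ' g).hom ≫ r = r ≫ (ρ (ψ g)).hom)

/-- The base change of `r`. -/
noncomputable def rV (V : U.Etale) : P q' V ⟶ P q V :=
  (isPullback q V).lift (pf q' V) (ps q' V ≫ r) (by rw [Category.assoc, hr, (isPullback q' V).w])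

@[reassoc (attr := simp)]
theorem rV_pf (V : U.Etale) : rV r hr V ≫ pf q V = pf q' V := (isPullback q V).lift_fst _ _ _

@[reassoc (attr := simp)]
theorem rV_ps (V : U.Etale) : rV r hr V ≫ ps q V = ps q' V ≫ r := (isPullback q V).lift_snd _ _ _

theorem isPullback_rV (V : U.Etale) : IsPullback (rV r hr V) (ps q' V) (ps q V) r := by
  refine IsPullback.of_right ?_ (rV_ps r hr V) (isPullback q V)
  rw [rV_pf, hr]
  exact isPullback q' V

theorem rV_nat {V' V : U.Etale} (β : V' ⟶ V) : rV r hr V' ≫ pmap q β = pmap q' β ≫ rV r hr V := by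
  apply P_hom_ext
  · simp only [Category.assoc, pmap_pf, rV_pf, rV_pf_assoc]
  · simp only [Category.assoc, pmap_ps, rV_ps]
    rw [← Category.assoc (pmap q' β), pmap_ps]

include hψ in
theorem rV_γ (V : U.Etale) (g : Γ') : γ q' ρ' H'.inv V g ≫ rV r hr V = rV r hr V ≫ γ q ρ H.inv V (ψ g) := by
  apply P_hom_ext
  · simp only [Category.assoc, rV_pf, γ_pf]
  · simp only [Category.assoc, rV_ps, γ_ps, γ_ps_assoc, rV_ps_assoc, hψ]

include hψ in
theorem rV_γ_apply (V : U.Etale) (g : Γ') (z : P q' V) :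
    rV r hr V (γ q' ρ' H'.inv V g z) = γ q ρ H.inv V (ψ g) (rV r hr V z) := by
  rw [← Scheme.Hom.comp_apply, rV_γ H H' r hr ψ hψ, Scheme.Hom.comp_apply]

include H H' hψ in
/-- Points with the same image are conjugate under the kernel. -/
theorem exists_eq_γ (V : U.Etale) {z₁ z₂ : P q' V} (h : rV r hr V z₁ = rV r hr V z₂) :
    ∃ g : Γ', ψ g = 1 ∧ γ q' ρ' H'.inv V g z₁ = z₂ := by
  obtain ⟨y, hy1, hy2⟩ := Scheme.Pullback.exists_preimage_pullback (f := rV r hr V) (g := rV r hr V) z₁ z₂ h
  obtain ⟨Ω, _, _, s, hs⟩ := exists_geomPt _ y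
  have e1 : (pullback.fst (rV r hr V) (rV r hr V) ≫ ps q' V) ≫ r =
      (pullback.snd (rV r hr V) (rV r hr V) ≫ ps q' V) ≫ r := by
    rw [Category.assoc, Category.assoc, ← rV_ps r hr V, pullback.condition_assoc]
  obtain ⟨g, hg, -⟩ := H'.simple Ω (s ≫ pullback.fst (rV r hr V) (rV r hr V) ≫ ps q' V)
    (s ≫ pullback.snd (rV r hr V) (rV r hr V) ≫ ps q' V) (by
      have := congrArg (fun f => s ≫ f ≫ q) e1
      simpa only [Category.assoc, hr] using this)
  have hg1 : ψ g = 1 := by
    apply H.isFree (s ≫ pullback.fst (rV r hr V) (rV r hr V) ≫ ps q' V ≫ r)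
    have h1 := congrArg (· ≫ r) hg
    simp only [Category.assoc, hψ] at h1
    simp only [Category.assoc]
    rw [h1]
    have := congrArg (fun f => s ≫ f) e1
    simpa only [Category.assoc] using this.symm
  refine ⟨g, hg1, ?_⟩
  have e : (s ≫ pullback.fst (rV r hr V) (rV r hr V)) ≫ γ q' ρ' H'.inv V g =
      s ≫ pullback.snd (rV r hr V) (rV r hr V) := by
    apply P_hom_ext
    · simp only [Category.assoc, γ_pf]
      rw [← rV_pf r hr V, pullback.condition_assoc]
    · simp only [Category.assoc, γ_ps]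
      simpa only [Category.assoc] using hg
  rw [← hy1, ← hy2, ← hs default, ← Scheme.Hom.comp_apply, ← Scheme.Hom.comp_apply, ← Scheme.Hom.comp_apply, ← e,
    Category.assoc]

variable {Λ : Type} [CommRing Λ] {M : Type} [AddCommGroup M] [Module Λ M] (σ : Representation Λ Γ M)

/-- Inflation of sections. -/
noncomputable def inflHom : Th q ρ H.inv σ ⟶ Th q' ρ' H'.inv (σ.comp ψ) where
  hom :=
    { app := fun V => AddCommGrpCat.ofHom
        { toFun := fun s => ThetaLam.mk q' ρ' H'.inv (σ.comp ψ) (V := V.unop)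
            (fun z => val q ρ H.inv σ (V := V.unop) s (rV r hr V.unop z))
            ((isLocallyConstant_val q ρ H.inv σ (V := V.unop) s).comp_continuous (rV r hr V.unop).continuous)
            (fun g z => by
              rw [rV_γ_apply H H' r hr ψ hψ, val_γ]
              rfl)
          map_zero' := rfl
          map_add' := fun _ _ => rfl }
      naturality := fun V V' β => by
        ext s
        refine val_ext q' ρ' H'.inv (σ.comp ψ) (V := V'.unop) fun z => ?_
        change val q ρ H.inv σ (V := V.unop) s (pmap q β.unop (rV r hr V'.unop z)) =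
          val q ρ H.inv σ (V := V.unop) s (rV r hr V.unop (pmap q' β.unop z))
        rw [← Scheme.Hom.comp_apply, rV_nat, Scheme.Hom.comp_apply] }

theorem val_inflHom {V : U.Etale} (s : (Th q ρ H.inv σ).obj.obj (op V)) (z : P q' V) :
    val q' ρ' H'.inv (σ.comp ψ) ((inflHom H H' r hr ψ hψ σ).hom.app (op V) s) z =
      val q ρ H.inv σ s (rV r hr V z) := rfl

theorem bijective_inflHom [Surjective r] (hs : Function.Surjective ψ) (V : U.Etale) :
    Function.Bijective ((inflHom H H' r hr ψ hψ σ).hom.app (op V)) := by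
  have hsr : Surjective (rV r hr V) :=
    MorphismProperty.of_isPullback (P := @Surjective) (isPullback_rV r hr V).flip ‹_›
  have her : Etale (rV r hr V) := by
    have h1 := H.et
    have h2 := H'.et
    have h3 : Etale r := by
      have : Etale (r ≫ q) := by rw [hr]; exact h2
      exact Etale.of_comp r q
    exact MorphismProperty.of_isPullback (P := @Etale) (isPullback_rV r hr V).flip h3
  constructor
  · intro s s' h
    refine val_ext q ρ H.inv σ fun y => ?_
    obtain ⟨z, rfl⟩ := hsr.surj y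
    have h1 := congrArg (fun t => val q' ρ' H'.inv (σ.comp ψ) t z) h
    exact h1
  · intro s
    have hdesc : ∀ z z' : P q' V, rV r hr V z = rV r hr V z' →
        val q' ρ' H'.inv (σ.comp ψ) s z = val q' ρ' H'.inv (σ.comp ψ) s z' := by
      intro z z' h
      obtain ⟨g, hg, rfl⟩ := exists_eq_γ H H' r hr ψ hψ V h
      rw [val_γ, MonoidHom.comp_apply, hg, map_one]
      rfl
    let F : P q V → M := fun y => val q' ρ' H'.inv (σ.comp ψ) s (hsr.surj y).choose
    have hF : ∀ z, F (rV r hr V z) = val q' ρ' H'.inv (σ.comp ψ) s z :=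
      fun z => hdesc _ _ (hsr.surj (rV r hr V z)).choose_spec
    have hFlc : IsLocallyConstant F := by
      intro S
      have h1 : F ⁻¹' S = rV r hr V '' (val q' ρ' H'.inv (σ.comp ψ) s ⁻¹' S) := by
        ext y
        constructor
        · intro hy
          obtain ⟨z, rfl⟩ := hsr.surj y
          exact ⟨z, by rw [Set.mem_preimage, ← hF]; exact hy, rfl⟩
        · rintro ⟨z, hz, rfl⟩
          rw [Set.mem_preimage, hF]
          exact hz
      rw [h1]
      exact (rV r hr V).isOpenMap _ (isLocallyConstant_val q' ρ' H'.inv (σ.comp ψ) s S)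
    have hFγ : ∀ (g : Γ) (y : P q V), F (γ q ρ H.inv V g y) = σ g (F y) := by
      intro g y
      obtain ⟨z, rfl⟩ := hsr.surj y
      obtain ⟨g', rfl⟩ := hs g
      rw [← rV_γ_apply H H' r hr ψ hψ, hF, hF, val_γ]
      rfl
    refine ⟨ThetaLam.mk q ρ H.inv σ F hFlc hFγ, ?_⟩
    refine val_ext q' ρ' H'.inv (σ.comp ψ) fun z => ?_
    rw [val_inflHom, val_mk, hF]

include hr hψ in
/-- **Inflation.** -/
theorem infl_iso [Surjective r] (hs : Function.Surjective ψ) :
    IsoLam (thetaLam q ρ H.inv σ) (thetaLam q' ρ' H'.inv (σ.comp ψ)) := by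
  have h : IsIso (inflHom H H' r hr ψ hψ σ) :=
    isIso_of_bijective (inflHom H H' r hr ψ hψ σ) (bijective_inflHom H H' r hr ψ hψ σ hs)
  refine ⟨@asIso _ _ _ _ (inflHom H H' r hr ψ hψ σ) h, fun a => ?_⟩
  rfl

end Groth.Agent.Sga4h.H222.Infl
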