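import Mathlib.GroupTheory.Sylow
import Mathlib.GroupTheory.PGroup
import Mathlib.GroupTheory.NoncommCoprod
import Mathlib.GroupTheory.GroupAction.SubMulAction
import Mathlib.GroupTheory.SpecificGroups.Cyclic
import Mathlib.Algebra.Group.Conj
import Mathlib.Data.Nat.Totient
import Mathlib.FieldTheory.Finite.Basic

/-!
# Counting fixed cosets modulo `ℓ`

`G` a finite group, `m` a power of `ℓ` with `g ^ m` of order prime to `ℓ` for all `g`, `c` with `c ^ m = c`.  There is
a subgroup `H` containing `c`, contained in the centralizer of `c`, such that `h ↦ h ^ m` is a homomorphism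
`H → ⟨c⟩`, and the number of cosets `xH` with `x⁻¹ g x ∈ H`, `(x⁻¹ g x) ^ m = c` is prime to `ℓ` and
independent of `g` modulo `ℓ` if `g ^ m` is conjugate to `c`, and zero otherwise.
-/

set_option autoImplicit false

namespace Groth.Agent.Sga4h.H222.Count

universe u

/-- `g ↦ g ^ m` is the projection to the part of order prime to `ℓ`. -/
structure Good (G : Type u) [Group G] (ℓ m : ℕ) : Prop where
  pow : ∃ j, m = ℓ ^ j
  idem : ∀ g : G, (g ^ m) ^ m = g ^ m
  ell : ∀ (g : G) (i : ℕ), g ^ ℓ ^ i = 1 → g ^ m = 1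

/-- Existence of good exponents which are powers of a given power of `ℓ`. -/
theorem exists_good (G : Type u) [Group G] [Finite G] (ℓ f : ℕ) (hℓ : ℓ.Prime) (hf : 0 < f) :
    ∃ k, Good G ℓ ((ℓ ^ f) ^ k) := by
  have hN : Nat.card G ≠ 0 := Nat.card_pos.ne'
  obtain ⟨a, n, hn, hG⟩ := Nat.exists_eq_pow_mul_and_not_dvd hN ℓ hℓ.one_lt.ne'
  have hn0 : 0 < n := Nat.pos_of_ne_zero fun h => hn (h ▸ dvd_zero ℓ)
  have hcop : Nat.Coprime ℓ n := (Nat.Prime.coprime_iff_not_dvd hℓ).2 hn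
  have hphi : 0 < n.totient := Nat.totient_pos.2 hn0
  refine ⟨a * n.totient, ⟨⟨f * (a * n.totient), (pow_mul ℓ f _).symm⟩, ?_, ?_⟩⟩
  · -- idempotent
    have ha : ℓ ^ a ∣ (ℓ ^ f) ^ (a * n.totient) := by
      rw [← pow_mul]
      refine pow_dvd_pow ℓ ?_
      calc a = 1 * (a * 1) := by ring
        _ ≤ f * (a * n.totient) := Nat.mul_le_mul hf (Nat.mul_le_mul le_rfl hphi)
    have hone : (ℓ ^ f) ^ (a * n.totient) ≡ 1 [MOD n] := by
      have h1 : ℓ ^ n.totient ≡ 1 [MOD n] := Nat.ModEq.pow_totient hcop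
      have h2 := h1.pow (f * a)
      rw [one_pow, ← pow_mul] at h2
      rwa [← pow_mul, show f * (a * n.totient) = n.totient * (f * a) by ring]
    intro g
    have h1 : (g ^ (ℓ ^ f) ^ (a * n.totient)) ^ n = 1 := by
      obtain ⟨b, hb⟩ := ha
      rw [← pow_mul, hb, show ℓ ^ a * b * n = (ℓ ^ a * n) * b by ring, ← hG, pow_mul, pow_card_eq_one',
        one_pow]
    generalize g ^ (ℓ ^ f) ^ (a * n.totient) = x at h1
    have h2 : orderOf x ∣ n := orderOf_dvd_of_pow_eq_one h1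
    have h3 := (hone.of_dvd h2)
    conv_rhs => rw [← pow_one x]
    exact pow_eq_pow_iff_modEq.2 h3
  · intro g i hg
    have ha : ℓ ^ a ∣ (ℓ ^ f) ^ (a * n.totient) := by
      rw [← pow_mul]
      refine pow_dvd_pow ℓ ?_
      calc a = 1 * (a * 1) := by ring
        _ ≤ f * (a * n.totient) := Nat.mul_le_mul hf (Nat.mul_le_mul le_rfl hphi)
    have h1 : orderOf g ∣ ℓ ^ i := orderOf_dvd_of_pow_eq_one hg
    have h2 : orderOf g ∣ ℓ ^ a * n := hG ▸ orderOf_dvd_natCard g
    have h3 : Nat.Coprime (orderOf g) n := Nat.Coprime.coprime_dvd_left h1 (hcop.pow_left i)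
    have h4 : orderOf g ∣ ℓ ^ a := h3.dvd_of_dvd_mul_right h2
    exact orderOf_dvd_iff_pow_eq_one.1 (h4.trans ha)

variable {G : Type u} [Group G] {ℓ m : ℕ}

/-- The subgroup attached to `c`. -/
structure IsSub (ℓ m : ℕ) (c : G) (H : Subgroup G) : Prop where
  mem : c ∈ H
  le : H ≤ Subgroup.centralizer {c}
  pow_mem : ∀ h ∈ H, h ^ m ∈ Subgroup.zpowers c
  pow_mul : ∀ h ∈ H, ∀ h' ∈ H, (h * h') ^ m = h ^ m * h' ^ m
  index : ¬ ℓ ∣ H.relIndex (Subgroup.centralizer {c})

theorem exists_isSub [Finite G] [hp : Fact ℓ.Prime] (hm : Good G ℓ m) (c : G) (hc : c ^ m = c) :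
    ∃ H : Subgroup G, IsSub ℓ m c H := by
  let Z := Subgroup.centralizer {c}
  obtain ⟨Q⟩ : Nonempty (Sylow ℓ Z) := inferInstance
  let Q' : Subgroup G := (Q : Subgroup Z).map Z.subtype
  have hQZ : Q' ≤ Z := Subgroup.map_subtype_le _
  have hcZ : c ∈ Z := Subgroup.mem_centralizer_singleton_iff.2 rfl
  have hcomm : ∀ (x : Subgroup.zpowers c) (y : Q'), Commute (x : G) (y : G) := by
    rintro ⟨x, i, rfl⟩ ⟨y, hy⟩
    have h1 := Subgroup.mem_centralizer_singleton_iff.1 (hQZ hy)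
    exact (Commute.zpow_right h1 i).symm
  let φ : Subgroup.zpowers c × Q' →* G :=
    MonoidHom.noncommCoprod (Subgroup.zpowers c).subtype Q'.subtype hcomm
  have hφ : ∀ x y, φ (x, y) = (x : G) * y := fun x y => rfl
  have hQ1 : ∀ y ∈ Q', y ^ m = 1 := by
    rintro y ⟨z, hz, rfl⟩
    obtain ⟨i, hi⟩ := Q.isPGroup' ⟨z, hz⟩
    refine hm.ell _ i ?_
    have h1 := congrArg (fun t : Q => (t : Z)) hi
    have h2 := congrArg (fun t : Z => (t : G)) h1
    simpa using h2
  have hx1 : ∀ x ∈ Subgroup.zpowers c, x ^ m = x := by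
    rintro _ ⟨i, rfl⟩
    change (c ^ i) ^ m = c ^ i
    rw [← zpow_natCast, ← zpow_mul, mul_comm, zpow_mul, zpow_natCast, hc]
  have hpow : ∀ x y, (φ (x, y)) ^ m = x := by
    intro x y
    rw [hφ, (hcomm x y).mul_pow, hQ1 y y.2, hx1 x x.2, mul_one]
  refine ⟨φ.range, ⟨?_, ?_, ?_, ?_, ?_⟩⟩
  · exact ⟨(⟨c, Subgroup.mem_zpowers c⟩, 1), by rw [hφ]; simp⟩
  · rintro _ ⟨⟨x, y⟩, rfl⟩
    rw [hφ]
    refine mul_mem ?_ (hQZ y.2)
    obtain ⟨i, hi⟩ := x.2
    rw [← hi]
    exact Subgroup.zpow_mem _ hcZ i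
  · rintro _ ⟨⟨x, y⟩, rfl⟩
    rw [hpow]
    exact x.2
  · rintro _ ⟨⟨x, y⟩, rfl⟩ _ ⟨⟨x', y'⟩, rfl⟩
    rw [← map_mul, hpow, hpow, Prod.mk_mul_mk, hpow]
    rfl
  · have h1 : Q' ≤ φ.range := fun y hy => ⟨(1, ⟨y, hy⟩), by rw [hφ]; simp⟩
    have h2 : φ.range ≤ Z := by
      rintro _ ⟨⟨x, y⟩, rfl⟩
      rw [hφ]
      refine mul_mem ?_ (hQZ y.2)
      obtain ⟨i, hi⟩ := x.2
      rw [← hi]
      exact Subgroup.zpow_mem _ hcZ i
    have h3 := Subgroup.relIndex_mul_relIndex Q' φ.range Z h1 h2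
    have h4 : Q'.relIndex Z = (Q : Subgroup Z).index := by
      rw [Subgroup.relIndex, Subgroup.subgroupOf, Subgroup.comap_map_eq_self_of_injective Z.subtype_injective]
    intro h5
    refine Q.not_dvd_index ?_
    rw [← h4, ← h3]
    exact Dvd.dvd.mul_left h5 _

/-- The set of cosets counted. -/
def cosets (m : ℕ) (c : G) (H : Subgroup G) (g : G) : Set (G ⧸ H) :=
  {q | q.out⁻¹ * g * q.out ∈ H ∧ (q.out⁻¹ * g * q.out) ^ m = c}

theorem conj_pow (x g : G) (m : ℕ) : (x⁻¹ * g * x) ^ m = x⁻¹ * g ^ m * x := by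
  induction m with
  | zero => simp
  | succ m ih => rw [pow_succ, ih, pow_succ]; group

theorem cosets_eq_empty {c : G} {H : Subgroup G} {g : G} (h : ¬ IsConj (g ^ m) c) :
    cosets m c H g = ∅ := by
  rw [Set.eq_empty_iff_forall_notMem]
  rintro q ⟨-, hq⟩
  apply h
  rw [conj_pow] at hq
  exact isConj_iff.2 ⟨q.out⁻¹, by rw [inv_inv, hq]⟩

variable {c : G} {H : Subgroup G}

theorem pred_iff (hH : IsSub ℓ m c H) (g x : G) :
    (x : G ⧸ H).out⁻¹ * g * (x : G ⧸ H).out = c ↔ x⁻¹ * g * x = c := by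
  obtain ⟨h, hh⟩ := QuotientGroup.mk_out_eq_mul H x
  rw [hh]
  have h1 : (h : G) * c = c * h := Subgroup.mem_centralizer_singleton_iff.1 (hH.le h.2)
  constructor
  · intro h2
    have h3 : x⁻¹ * g * x = h * ((x * h)⁻¹ * g * (x * h)) * (h : G)⁻¹ := by group
    rw [h3, h2, h1, mul_inv_cancel_right]
  · intro h2
    have h3 : (x * h)⁻¹ * g * (x * h) = (h : G)⁻¹ * (x⁻¹ * g * x) * h := by group
    rw [h3, h2, mul_assoc, ← h1, inv_mul_cancel_left]

/-- The cosets `xH` with `x⁻¹ g x = c`. -/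
def Fib (c : G) (H : Subgroup G) (g : G) : Type u := {q : G ⧸ H // q.out⁻¹ * g * q.out = c}

theorem card_fib [Finite G] (hH : IsSub ℓ m c H) {g : G} (h : IsConj g c) :
    Nat.card (Fib c H g) = H.relIndex (Subgroup.centralizer {c}) := by
  obtain ⟨y, hy⟩ := isConj_iff.1 h.symm
  -- `y c y⁻¹ = g`
  have hy' : y⁻¹ * g * y = c := by rw [← hy]; group
  have hz : ∀ z : Subgroup.centralizer {c}, (y * z : G)⁻¹ * g * (y * z) = c := by
    intro z
    have h1 : (z : G) * c = c * z := Subgroup.mem_centralizer_singleton_iff.1 z.2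
    have h3 : (y * z : G)⁻¹ * g * (y * z) = (z : G)⁻¹ * (y⁻¹ * g * y) * z := by group
    rw [h3, hy', mul_assoc, ← h1, inv_mul_cancel_left]
  let F : Subgroup.centralizer {c} ⧸ H.subgroupOf (Subgroup.centralizer {c}) → Fib c H g :=
    Quotient.lift (fun z => (⟨((y * z : G) : G ⧸ H), (pred_iff hH g _).2 (hz z)⟩ : Fib c H g)) (by
      intro z z' hzz
      apply Subtype.ext
      change ((y * z : G) : G ⧸ H) = ((y * z' : G) : G ⧸ H)
      rw [QuotientGroup.eq]
      have h1 : z⁻¹ * z' ∈ H.subgroupOf (Subgroup.centralizer {c}) := QuotientGroup.leftRel_apply.1 hzz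
      have h2 : (y * z : G)⁻¹ * (y * z') = ((z⁻¹ * z' : Subgroup.centralizer {c}) : G) := by
        push_cast
        group
      rw [h2]
      exact h1)
  have hF : Function.Bijective F := by
    constructor
    · rintro ⟨z⟩ ⟨z'⟩ hzz
      have h1 : ((y * z : G) : G ⧸ H) = ((y * z' : G) : G ⧸ H) := congrArg Subtype.val hzz
      rw [QuotientGroup.eq] at h1
      refine Quotient.sound (QuotientGroup.leftRel_apply.2 ?_)
      have h2 : (y * z : G)⁻¹ * (y * z') = ((z⁻¹ * z' : Subgroup.centralizer {c}) : G) := by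
        push_cast
        group
      rwa [h2] at h1
    · rintro ⟨q, hq⟩
      induction q using QuotientGroup.induction_on with
      | H x =>
        rw [pred_iff hH] at hq
        have hz : y⁻¹ * x ∈ Subgroup.centralizer {c} := by
          rw [Subgroup.mem_centralizer_singleton_iff]
          calc y⁻¹ * x * c = y⁻¹ * x * (x⁻¹ * g * x) := by rw [hq]
            _ = (y⁻¹ * g * y) * (y⁻¹ * x) := by group
            _ = c * (y⁻¹ * x) := by rw [hy']
        refine ⟨(⟨y⁻¹ * x, hz⟩ : Subgroup.centralizer {c}), ?_⟩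
        apply Subtype.ext
        change ((y * (y⁻¹ * x) : G) : G ⧸ H) = x
        rw [mul_inv_cancel_left]
  rw [← Nat.card_eq_of_bijective F hF]
  rfl

/-- The count. -/
theorem card_cosets [Finite G] [hp : Fact ℓ.Prime] (hm : Good G ℓ m) (hH : IsSub ℓ m c H) {g : G}
    (h : IsConj (g ^ m) c) :
    Nat.card (cosets m c H g) ≡ H.relIndex (Subgroup.centralizer {c}) [MOD ℓ] := by
  rw [← card_fib hH h]
  let u : G := g * (g ^ m)⁻¹
  have hug : u * g ^ m = g := inv_mul_cancel_right _ _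
  have hcomm : Commute g (g ^ m) := (Commute.refl g).pow_right m
  have hu1 : Commute u (g ^ m) := (hcomm.mul_left ((Commute.refl (g ^ m)).inv_left))
  have hum : u ^ m = 1 := by
    rw [(hcomm.inv_right).mul_pow, inv_pow, hm.idem, mul_inv_cancel]
  have hpg : IsPGroup ℓ (Subgroup.zpowers u) := by
    obtain ⟨j, hj⟩ := hm.pow
    rintro ⟨_, i, rfl⟩
    refine ⟨j, Subtype.ext ?_⟩
    change (u ^ i) ^ ℓ ^ j = 1
    rw [← hj, ← zpow_natCast, ← zpow_mul, mul_comm, zpow_mul, zpow_natCast, hum, one_zpow]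
  have hcu : ∀ w ∈ Subgroup.zpowers u, Commute w (g ^ m) := by
    rintro _ ⟨i, rfl⟩
    exact hu1.zpow_left i
  letI act : MulAction (Subgroup.zpowers u) (Fib c H (g ^ m)) :=
    { smul := fun w q => ⟨(w : G) • q.1, by
        obtain ⟨q, hq⟩ := q
        induction q using QuotientGroup.induction_on with
        | H x =>
          rw [pred_iff hH] at hq
          change (((w : G) * x : G) : G ⧸ H).out⁻¹ * _ * (((w : G) * x : G) : G ⧸ H).out = c
          rw [pred_iff hH]
          have h1 := (hcu w w.2).eq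
          calc ((w : G) * x)⁻¹ * g ^ m * (w * x) = x⁻¹ * (w : G)⁻¹ * (g ^ m * w) * x := by group
            _ = x⁻¹ * (w : G)⁻¹ * (w * g ^ m) * x := by rw [h1]
            _ = x⁻¹ * g ^ m * x := by group
            _ = c := hq⟩
      one_smul := fun q => Subtype.ext (one_smul G q.1)
      mul_smul := fun w w' q => Subtype.ext (mul_smul (w : G) (w' : G) q.1) }
  haveI : Finite (Fib c H (g ^ m)) := inferInstanceAs (Finite {q : G ⧸ H // _})
  refine Nat.ModEq.trans ?_ (hpg.card_modEq_card_fixedPoints (Fib c H (g ^ m))).symm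
  have key : ∀ q : G ⧸ H, q.out⁻¹ * g ^ m * q.out = c →
      (u • q = q ↔ q.out⁻¹ * g * q.out ∈ H) := by
    intro q hq
    have h1 : u • q = ((u * q.out : G) : G ⧸ H) := by
      conv_lhs => rw [← QuotientGroup.out_eq' q]
      rfl
    have h2 : u • q = q ↔ ((u * q.out : G) : G ⧸ H) = ((q.out : G) : G ⧸ H) := by
      rw [h1, QuotientGroup.out_eq']
    rw [h2, eq_comm, QuotientGroup.eq]
    have h3 : q.out⁻¹ * g * q.out = (q.out⁻¹ * (u * q.out)) * c := by
      rw [← hq]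
      conv_lhs => rw [← hug]
      group
    rw [h3]
    exact (H.mul_mem_cancel_right hH.mem).symm
  have e : cosets m c H g ≃ MulAction.fixedPoints (Subgroup.zpowers u) (Fib c H (g ^ m)) :=
    { toFun := fun q => ⟨⟨q.1, by
          have := q.2.2
          rwa [conj_pow] at this⟩, by
        rintro ⟨_, i, rfl⟩
        apply Subtype.ext
        change (u ^ i) • q.1 = q.1
        have h1 : q.1.out⁻¹ * g ^ m * q.1.out = c := by
          have := q.2.2
          rwa [conj_pow] at this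
        have h2 : u • q.1 = q.1 := (key q.1 h1).2 q.2.1
        exact (MulAction.mem_stabilizer_iff.1
          (Subgroup.zpow_mem (MulAction.stabilizer G q.1) (MulAction.mem_stabilizer_iff.2 h2) i))⟩
      invFun := fun q => ⟨q.1.1, (key q.1.1 q.1.2).1 (congrArg Subtype.val
        (q.2 ⟨u, Subgroup.mem_zpowers u⟩)), by rw [conj_pow]; exact q.1.2⟩
      left_inv := fun q => rfl
      right_inv := fun q => rfl }
  rw [Nat.card_congr e]

end Groth.Agent.Sga4h.H222.Count
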