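import Groth.Agent.Sga4h.H222.RepInv
import Groth.Agent.Sga4h.H222.Count
import Mathlib.LinearAlgebra.Matrix.Charpoly.FiniteField
import Mathlib.LinearAlgebra.Trace
import Mathlib.Algebra.Field.GeomSum

/-!
# A modular Brauer theorem with permutation modules and a twist

`Λ` a finite field of characteristic `ℓ`, `G` a finite group, `C` a finite group with an injective character
`χ : C →* Λˣ`, `c₀ ∈ C` whose order is divisible by the order of every element of `G` of order prime to `ℓ`.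
An additive invariant `D` of the finite-dimensional representations of `G × C` over `Λ` with
`D (ρ ⊗ χ) = χ c₀ * D ρ` which vanishes on all permutation modules is zero (`eq_zero`).
-/

set_option autoImplicit false

universe u v

namespace Groth.Agent.Sga4h.H222.ModBrauer

open RepInv

section general

variable {Λ : Type} [Field Λ] {G : Type u} [Group G]

/-- The permutation representation on functions: `(g f) x = f (g⁻¹ x)`. -/
def permRep (Λ : Type) [Field Λ] (G : Type u) [Group G] (X : Type v) [MulAction G X] :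
    Representation Λ G (X → Λ) where
  toFun g := LinearMap.funLeft Λ Λ (fun x => g⁻¹ • x)
  map_one' := by
    refine LinearMap.ext fun f => funext fun x => ?_
    change f ((1 : G)⁻¹ • x) = f x
    rw [inv_one, one_smul]
  map_mul' g h := by
    refine LinearMap.ext fun f => funext fun x => ?_
    change f ((g * h)⁻¹ • x) = f (h⁻¹ • g⁻¹ • x)
    rw [mul_inv_rev, mul_smul]

theorem permRep_apply (X : Type v) [MulAction G X] (g : G) (f : X → Λ) (x : X) :
    permRep Λ G X g f x = f (g⁻¹ • x) := rfl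

theorem trace_permRep (X : Type v) [Finite X] [MulAction G X] (g : G) :
    LinearMap.trace Λ (X → Λ) (permRep Λ G X g) = (Nat.card {x : X // g • x = x} : Λ) := by
  classical
  have := Fintype.ofFinite X
  rw [LinearMap.trace_eq_matrix_trace Λ (Pi.basisFun Λ X), Matrix.trace]
  have h : ∀ x : X, (Matrix.diag (LinearMap.toMatrix (Pi.basisFun Λ X) (Pi.basisFun Λ X)
      (permRep Λ G X g)) x) = if g • x = x then 1 else 0 := by
    intro x
    rw [Matrix.diag_apply, LinearMap.toMatrix_apply, Pi.basisFun_repr, Pi.basisFun_apply, permRep_apply,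
      Pi.single_apply]
    refine if_congr ?_ rfl rfl
    constructor
    · intro h
      nth_rw 1 [← h]
      rw [smul_inv_smul]
    · intro h
      nth_rw 1 [← h]
      rw [inv_smul_smul]
  rw [Finset.sum_congr rfl fun x _ => h x, Finset.sum_ite, Finset.sum_const_zero, add_zero, Finset.sum_const,
    nsmul_one, Nat.card_eq_fintype_card, Fintype.card_subtype]

/-- The twist of a representation by a character. -/
def twist (χ : G →* Λˣ) {M : Type v} [AddCommGroup M] [Module Λ M] (ρ : Representation Λ G M) :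
    Representation Λ G M where
  toFun g := (χ g : Λ) • ρ g
  map_one' := by rw [map_one, map_one, Units.val_one, one_smul]
  map_mul' g h := by
    rw [map_mul, map_mul, Units.val_mul, smul_mul_smul_comm]

theorem twist_apply (χ : G →* Λˣ) {M : Type v} [AddCommGroup M] [Module Λ M] (ρ : Representation Λ G M)
    (g : G) (x : M) : twist χ ρ g x = (χ g : Λ) • ρ g x := rfl

/-- The trace is invariant under powers of the Frobenius of the finite field `Λ`. -/
theorem trace_pow [Finite Λ] {M : Type v} [AddCommGroup M] [Module Λ M] [Module.Finite Λ M]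
    (f : Module.End Λ M) (k : ℕ) : LinearMap.trace Λ M (f ^ (Nat.card Λ ^ k)) = LinearMap.trace Λ M f := by
  classical
  have := Fintype.ofFinite Λ
  induction k generalizing f with
  | zero => rw [pow_zero, pow_one]
  | succ k ih =>
    rw [pow_succ, pow_mul, ← ih f]
    generalize f ^ Nat.card Λ ^ k = g
    let b := Module.finBasis Λ M
    rw [LinearMap.trace_eq_matrix_trace Λ b, LinearMap.trace_eq_matrix_trace Λ b, ← LinearMap.toMatrix_pow,
      Nat.card_eq_fintype_card, FiniteField.trace_pow_card, FiniteField.pow_card]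

theorem sum_pow_one [Finite Λ] : (∑ a ∈ Finset.range (Nat.card Λ - 1), (((1 : Λˣ) : Λ)) ^ a) = -1 := by
  have := Fintype.ofFinite Λ
  have h1 : 1 ≤ Nat.card Λ := Nat.card_pos
  rw [Units.val_one]
  simp only [one_pow, Finset.sum_const, Finset.card_range, nsmul_one]
  rw [Nat.cast_sub h1, Nat.card_eq_fintype_card, FiniteField.cast_card_eq_zero, Nat.cast_one, zero_sub]

theorem sum_pow_ne_one [Finite Λ] {z : Λˣ} (h : z ≠ 1) :
    (∑ a ∈ Finset.range (Nat.card Λ - 1), (z : Λ) ^ a) = 0 := by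
  have := Fintype.ofFinite Λ
  have h2 := geom_sum_mul (z : Λ) (Nat.card Λ - 1)
  have h3 : (z : Λ) ^ (Nat.card Λ - 1) = 1 := by
    rw [Nat.card_eq_fintype_card]
    exact FiniteField.pow_card_sub_one_eq_one _ z.ne_zero
  rw [h3, sub_self] at h2
  exact (mul_eq_zero.1 h2).resolve_right (sub_ne_zero.2 fun h4 => h (Units.ext h4))

end general

section main

variable {Λ : Type} [Field Λ] [Finite Λ] {ℓ : ℕ} [hp : Fact ℓ.Prime] [CharP Λ ℓ] {G : Type u} [Group G] [Finite G]
  {C : Type} [CommGroup C] [Finite C] {χ : C →* Λˣ} {c₀ : C}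

omit [Finite G] in
/-- The support of the coefficients is in the fibre over `c₀`. -/
theorem exists_repr_twist {D : RInv Λ (G × C)} (hD : IsAdd D) (hχ : Function.Injective χ)
    (htw : ∀ (M : Type) [AddCommGroup M] [Module Λ M] [Module.Finite Λ M] (ρ : Representation Λ (G × C) M),
      D M (twist (χ.comp (MonoidHom.snd G C)) ρ) = (χ c₀ : Λ) * D M ρ) [Fintype G] :
    ∃ e : G → Λ, ∀ (M : Type) [AddCommGroup M] [Module Λ M] [Module.Finite Λ M]
      (ρ : Representation Λ (G × C) M), D M ρ = ∑ g : G, e g * LinearMap.trace Λ M (ρ (g, c₀)) := by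
  classical
  have := Fintype.ofFinite C
  obtain ⟨e, he⟩ := exists_repr hD
  refine ⟨fun g => e (g, c₀), fun M _ _ _ ρ => ?_⟩
  let τ : ℕ → Representation Λ (G × C) M := fun a => (twist (χ.comp (MonoidHom.snd G C)))^[a] ρ
  have hτ : ∀ a x, τ a x = (χ x.2 : Λ) ^ a • ρ x := by
    intro a
    induction a with
    | zero => intro x; rw [pow_zero, one_smul]; rfl
    | succ a ih =>
      intro x
      have h1 : τ (a + 1) = twist (χ.comp (MonoidHom.snd G C)) (τ a) := Function.iterate_succ_apply' _ _ _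
      rw [h1]
      change (χ x.2 : Λ) • τ a x = _
      rw [ih, smul_smul, pow_succ']
  have hDτ : ∀ a, D M (τ a) = (χ c₀ : Λ) ^ a * D M ρ := by
    intro a
    induction a with
    | zero => rw [pow_zero, one_mul]; rfl
    | succ a ih =>
      have h1 : τ (a + 1) = twist (χ.comp (MonoidHom.snd G C)) (τ a) := Function.iterate_succ_apply' _ _ _
      rw [h1, htw, ih, pow_succ', mul_assoc]
  have h1 : ∀ a, D M ρ = ∑ x : G × C, e x * LinearMap.trace Λ M (ρ x) * (((χ c₀)⁻¹ * χ x.2 : Λˣ) : Λ) ^ a := by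
    intro a
    have h2 : D M ρ = ((χ c₀)⁻¹ : Λˣ) ^ a * D M (τ a) := by
      rw [hDτ, ← mul_assoc, ← mul_pow, Units.inv_mul, one_pow, one_mul]
    rw [h2, he, Finset.mul_sum]
    refine Finset.sum_congr rfl fun x _ => ?_
    rw [hτ, map_smul, smul_eq_mul, Units.val_mul, mul_pow]
    ring
  have h2 : (∑ a ∈ Finset.range (Nat.card Λ - 1), D M ρ) = - D M ρ := by
    rw [Finset.sum_const, Finset.card_range, nsmul_eq_mul]
    have := sum_pow_one (Λ := Λ)
    simp only [Units.val_one, one_pow, Finset.sum_const, Finset.card_range, nsmul_one] at this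
    rw [this, neg_one_mul]
  have h3 : (∑ a ∈ Finset.range (Nat.card Λ - 1), D M ρ) =
      ∑ x : G × C, e x * LinearMap.trace Λ M (ρ x) *
        ∑ a ∈ Finset.range (Nat.card Λ - 1), (((χ c₀)⁻¹ * χ x.2 : Λˣ) : Λ) ^ a := by
    rw [Finset.sum_congr rfl fun a _ => h1 a, Finset.sum_comm]
    exact Finset.sum_congr rfl fun x _ => by rw [Finset.mul_sum]
  have h4 : (∑ x : G × C, e x * LinearMap.trace Λ M (ρ x) *
        ∑ a ∈ Finset.range (Nat.card Λ - 1), (((χ c₀)⁻¹ * χ x.2 : Λˣ) : Λ) ^ a) =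
      ∑ g : G, e (g, c₀) * LinearMap.trace Λ M (ρ (g, c₀)) * (-1) := by
    rw [Fintype.sum_prod_type]
    refine Finset.sum_congr rfl fun g _ => ?_
    rw [Finset.sum_eq_single c₀]
    · rw [inv_mul_cancel, sum_pow_one]
    · intro c _ hc
      rw [sum_pow_ne_one, mul_zero]
      intro h5
      exact hc (hχ (inv_mul_eq_one.1 h5).symm)
    · exact fun h => absurd (Finset.mem_univ _) h
  rw [h3, h4, ← Finset.sum_mul] at h2
  rw [mul_neg_one, neg_inj] at h2
  exact h2.symm

theorem coprime_of_good {G : Type u} [Group G] [Finite G] {m : ℕ} (hm : Count.Good G ℓ m) {c : G} (hc : c ^ m = c) :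
    (orderOf c).Coprime ℓ := by
  rw [Nat.coprime_comm, Nat.Prime.coprime_iff_not_dvd hp.out]
  intro h
  have h0 : orderOf c ≠ 0 := (orderOf_pos c).ne'
  have h1 : orderOf (c ^ (orderOf c / ℓ)) = ℓ := orderOf_pow_orderOf_div h0 h
  have h2 : (c ^ (orderOf c / ℓ)) ^ m = 1 := hm.ell _ 1 (by
    have := pow_orderOf_eq_one (c ^ (orderOf c / ℓ))
    rw [h1] at this
    rwa [pow_one])
  have h3 : (c ^ (orderOf c / ℓ)) ^ m = c ^ (orderOf c / ℓ) := by
    rw [← pow_mul, mul_comm, pow_mul, hc]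
  rw [h3] at h2
  rw [h2, orderOf_one] at h1
  exact hp.out.one_lt.ne h1

omit [CommGroup C] [Finite C] in
theorem pow_card_eq [Group C] {χ : C →* Λˣ} (hχ : Function.Injective χ) (k : ℕ) (b : C) :
    b ^ (Nat.card Λ ^ k) = b := by
  have := Fintype.ofFinite Λ
  have h1 : ∀ b : C, b ^ (Nat.card Λ) = b := by
    intro b
    apply hχ
    apply Units.ext
    rw [map_pow, Units.val_pow_eq_pow_val, Nat.card_eq_fintype_card, FiniteField.pow_card]
  induction k with
  | zero => rw [pow_zero, pow_one]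
  | succ k ih => rw [pow_succ, pow_mul, ih, h1]

open Classical in
/-- Fixed points of `(g, c₀)` on the cosets of `H`. -/
theorem card_fixed (hχ : Function.Injective χ)
    (hN : ∀ g : G, (orderOf g).Coprime ℓ → orderOf g ∣ orderOf c₀) {k : ℕ}
    (hM : Count.Good (G × C) ℓ (Nat.card Λ ^ k)) {c : G} (hc : c ^ (Nat.card Λ ^ k) = c) {H : Subgroup (G × C)}
    (hH : Count.IsSub ℓ (Nat.card Λ ^ k) (c, c₀) H) (g : G) :
    (Nat.card {q : (G × C) ⧸ H // ((g, c₀) : G × C) • q = q} : Λ) =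
      (if IsConj (g ^ (Nat.card Λ ^ k)) c then 1 else 0) *
        (H.relIndex (Subgroup.centralizer {(c, c₀)}) : Λ) := by
  classical
  have := Fintype.ofFinite Λ
  have hC : ∀ b : C, b ^ (Nat.card Λ ^ k) = b := pow_card_eq hχ k
  have hcop : (orderOf c).Coprime ℓ := by
    have h1 := coprime_of_good hM (c := (c, (1 : C))) (by rw [Prod.pow_mk, hc, one_pow])
    rwa [show orderOf ((c, (1 : C))) = orderOf c by
      rw [Prod.orderOf_mk, orderOf_one, Nat.lcm_one_right]] at h1
  have hord := hN c hcop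
  have hfix : ∀ q : (G × C) ⧸ H, ((g, c₀) : G × C) • q = q ↔ q.out⁻¹ * (g, c₀) * q.out ∈ H := by
    intro q
    have h1 : ((g, c₀) : G × C) • q = (((g, c₀) * q.out : G × C) : (G × C) ⧸ H) := by
      conv_lhs => rw [← QuotientGroup.out_eq' q]
      rfl
    have h2 : ((g, c₀) : G × C) • q = q ↔
        (((g, c₀) * q.out : G × C) : (G × C) ⧸ H) = ((q.out : G × C) : (G × C) ⧸ H) := by
      rw [h1, QuotientGroup.out_eq']
    rw [h2, eq_comm, QuotientGroup.eq, mul_assoc]
  have hset : ∀ q : (G × C) ⧸ H, ((g, c₀) : G × C) • q = q ↔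
      q ∈ Count.cosets (Nat.card Λ ^ k) (c, c₀) H (g, c₀) := by
    intro q
    rw [hfix]
    refine ⟨fun h => ⟨h, ?_⟩, fun h => h.1⟩
    obtain ⟨t, ht⟩ := hH.pow_mem _ h
    have ht' : ((c, c₀) : G × C) ^ t = (q.out⁻¹ * (g, c₀) * q.out) ^ (Nat.card Λ ^ k) := ht
    rw [← ht']
    have h2 : c₀ ^ t = c₀ := by
      have h3 := congrArg Prod.snd ht'
      rw [Prod.pow_snd, Prod.pow_snd, hC] at h3
      rw [h3]
      change q.out.2⁻¹ * c₀ * q.out.2 = c₀
      rw [mul_comm, mul_inv_cancel_left]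
    have h4 : c₀ ^ (t - 1) = 1 := by rw [zpow_sub_one, h2, mul_inv_cancel]
    have h5 : (orderOf c : ℤ) ∣ t - 1 :=
      (Int.natCast_dvd_natCast.2 hord).trans (orderOf_dvd_iff_zpow_eq_one.2 h4)
    have h6 : c ^ (t - 1) = 1 := orderOf_dvd_iff_zpow_eq_one.1 h5
    have h7 : c ^ t = c := by
      rw [zpow_sub_one] at h6
      exact mul_inv_eq_one.1 h6
    rw [Prod.pow_mk, h7, h2]
  have hcard : Nat.card {q : (G × C) ⧸ H // ((g, c₀) : G × C) • q = q} =
      Nat.card (Count.cosets (Nat.card Λ ^ k) (c, c₀) H (g, c₀)) :=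
    Nat.card_congr (Equiv.subtypeEquivRight hset)
  have hconj : IsConj (((g, c₀) : G × C) ^ (Nat.card Λ ^ k)) (c, c₀) ↔ IsConj (g ^ (Nat.card Λ ^ k)) c := by
    rw [Prod.pow_mk, hC]
    constructor
    · intro h
      obtain ⟨a, ha⟩ := isConj_iff.1 h
      exact isConj_iff.2 ⟨a.1, congrArg Prod.fst ha⟩
    · intro h
      obtain ⟨a, ha⟩ := isConj_iff.1 h
      refine isConj_iff.2 ⟨(a, 1), ?_⟩
      rw [Prod.mk_mul_mk, Prod.inv_mk, Prod.mk_mul_mk, ha, one_mul, inv_one, mul_one]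
  rw [hcard]
  split_ifs with h
  · rw [one_mul]
    exact (CharP.cast_eq_iff_mod_eq Λ ℓ).2 (Count.card_cosets hM hH (hconj.2 h))
  · rw [Count.cosets_eq_empty (fun h' => h (hconj.1 h')), zero_mul]
    simp

theorem eq_zero {D : RInv Λ (G × C)} (hD : IsAdd D) (hχ : Function.Injective χ)
    (hN : ∀ g : G, (orderOf g).Coprime ℓ → orderOf g ∣ orderOf c₀)
    (htw : ∀ (M : Type) [AddCommGroup M] [Module Λ M] [Module.Finite Λ M] (ρ : Representation Λ (G × C) M),
      D M (twist (χ.comp (MonoidHom.snd G C)) ρ) = (χ c₀ : Λ) * D M ρ)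
    (hperm : ∀ (X : Type) [Finite X] [Nonempty X] [MulAction (G × C) X] [MulAction.IsPretransitive (G × C) X],
      D (X → Λ) (permRep Λ (G × C) X) = 0)
    (M : Type) [AddCommGroup M] [Module Λ M] [Module.Finite Λ M] (ρ : Representation Λ (G × C) M) :
    D M ρ = 0 := by
  classical
  have := Fintype.ofFinite Λ
  have := Fintype.ofFinite G
  have := Fintype.ofFinite C
  obtain ⟨e, he⟩ := exists_repr_twist hD hχ htw
  obtain ⟨f, hf0, hf⟩ : ∃ f, 0 < f ∧ Nat.card Λ = ℓ ^ f := by
    obtain ⟨f, -, hf⟩ := FiniteField.card Λ ℓ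
    exact ⟨f, f.pos, by rw [Nat.card_eq_fintype_card, hf]⟩
  obtain ⟨k, hk⟩ := Count.exists_good (G × C) ℓ f hp.out hf0
  rw [← hf] at hk
  -- the sums over the fibres vanish
  have hsum : ∀ c : G, c ^ (Nat.card Λ ^ k) = c →
      (∑ g : G, if IsConj (g ^ (Nat.card Λ ^ k)) c then e g else 0) = 0 := by
    intro c hc
    have hc' : ((c, c₀) : G × C) ^ (Nat.card Λ ^ k) = (c, c₀) := by
      rw [Prod.pow_mk, hc, pow_card_eq hχ]
    obtain ⟨H, hH⟩ := Count.exists_isSub hk (c, c₀) hc'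
    let ε : Shrink.{0} ((G × C) ⧸ H) ≃ (G × C) ⧸ H := (equivShrink _).symm
    let act : MulAction (G × C) (Shrink.{0} ((G × C) ⧸ H)) := ε.mulAction (G × C)
    have hfin : Finite (Shrink.{0} ((G × C) ⧸ H)) := Finite.of_equiv _ ε.symm
    have hne : Nonempty (Shrink.{0} ((G × C) ⧸ H)) := ⟨ε.symm (QuotientGroup.mk 1)⟩
    have htrans : MulAction.IsPretransitive (G × C) (Shrink.{0} ((G × C) ⧸ H)) := ⟨fun x y => by
      obtain ⟨g, hg⟩ := MulAction.exists_smul_eq (G × C) (ε x) (ε y)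
      exact ⟨g, ε.injective ((ε.apply_symm_apply _).trans hg)⟩⟩
    have h1 := hperm (Shrink.{0} ((G × C) ⧸ H))
    rw [he] at h1
    have h2 : ∀ g : G, LinearMap.trace Λ (Shrink.{0} ((G × C) ⧸ H) → Λ)
        (permRep Λ (G × C) (Shrink.{0} ((G × C) ⧸ H)) (g, c₀)) =
        (if IsConj (g ^ (Nat.card Λ ^ k)) c then 1 else 0) *
          (H.relIndex (Subgroup.centralizer {(c, c₀)}) : Λ) := by
      intro g
      have h4 : Nat.card {x : Shrink.{0} ((G × C) ⧸ H) // ((g, c₀) : G × C) • x = x} =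
          Nat.card {q : (G × C) ⧸ H // ((g, c₀) : G × C) • q = q} := by
        refine Nat.card_congr (ε.subtypeEquiv fun x => ?_)
        rw [← ε.apply_eq_iff_eq]
        have : ε (((g, c₀) : G × C) • x) = ((g, c₀) : G × C) • ε x := ε.apply_symm_apply _
        rw [this]
      rw [trace_permRep, h4, card_fixed hχ hN hk hc hH g]
      congr
    rw [Finset.sum_congr rfl fun g _ => by rw [h2 g]] at h1
    have h3 : (∑ g : G, e g * ((if IsConj (g ^ (Nat.card Λ ^ k)) c then 1 else 0) *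
        (H.relIndex (Subgroup.centralizer {(c, c₀)}) : Λ))) =
        (∑ g : G, if IsConj (g ^ (Nat.card Λ ^ k)) c then e g else 0) *
        (H.relIndex (Subgroup.centralizer {(c, c₀)}) : Λ) := by
      rw [Finset.sum_mul]
      refine Finset.sum_congr rfl fun g _ => ?_
      split_ifs <;> ring
    rw [h3] at h1
    refine (mul_eq_zero.1 h1).resolve_right fun h4 => hH.index ?_
    exact (CharP.cast_eq_zero_iff Λ ℓ _).1 h4
  rw [he, ← Finset.sum_fiberwise Finset.univ (fun g : G => ConjClasses.mk (g ^ (Nat.card Λ ^ k)))]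
  refine Finset.sum_eq_zero fun κ _ => ?_
  by_cases hκ : ∃ g₀ : G, ConjClasses.mk (g₀ ^ (Nat.card Λ ^ k)) = κ
  · obtain ⟨g₀, rfl⟩ := hκ
    have hid : (g₀ ^ (Nat.card Λ ^ k)) ^ (Nat.card Λ ^ k) = g₀ ^ (Nat.card Λ ^ k) :=
      congrArg Prod.fst (hk.idem (g₀, 1))
    have h5 := hsum _ hid
    have h6 : ∀ g ∈ Finset.univ.filter (fun g : G => ConjClasses.mk (g ^ (Nat.card Λ ^ k)) =
        ConjClasses.mk (g₀ ^ (Nat.card Λ ^ k))), e g * LinearMap.trace Λ M (ρ (g, c₀)) =
        e g * LinearMap.trace Λ M (ρ (g₀ ^ (Nat.card Λ ^ k), c₀)) := by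
      intro g hg
      have h7 : IsConj (g ^ (Nat.card Λ ^ k)) (g₀ ^ (Nat.card Λ ^ k)) :=
        ConjClasses.mk_eq_mk_iff_isConj.1 (Finset.mem_filter.1 hg).2
      obtain ⟨a, ha⟩ := isConj_iff.1 h7
      have h8 : LinearMap.trace Λ M (ρ (g, c₀)) = LinearMap.trace Λ M (ρ (g ^ (Nat.card Λ ^ k), c₀)) := by
        rw [← trace_pow (ρ (g, c₀)) k, ← map_pow ρ, Prod.pow_mk, pow_card_eq hχ]
      have h9 : LinearMap.trace Λ M (ρ (g ^ (Nat.card Λ ^ k), c₀)) =
          LinearMap.trace Λ M (ρ (g₀ ^ (Nat.card Λ ^ k), c₀)) := by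
        have h10 : ((g₀ ^ (Nat.card Λ ^ k), c₀) : G × C) = (a, 1) * (g ^ (Nat.card Λ ^ k), c₀) * (a, 1)⁻¹ := by
          rw [Prod.inv_mk, Prod.mk_mul_mk, Prod.mk_mul_mk, ha, one_mul, inv_one, mul_one]
        rw [h10, map_mul ρ, LinearMap.trace_mul_comm, ← map_mul ρ, ← mul_assoc, inv_mul_cancel, one_mul]
      rw [h8, h9]
    rw [Finset.sum_congr rfl h6, ← Finset.sum_mul]
    rw [Finset.sum_filter]
    have h11 : ∀ g : G, (if ConjClasses.mk (g ^ (Nat.card Λ ^ k)) = ConjClasses.mk (g₀ ^ (Nat.card Λ ^ k)) then e g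
        else 0) = (if IsConj (g ^ (Nat.card Λ ^ k)) (g₀ ^ (Nat.card Λ ^ k)) then e g else 0) :=
      fun g => if_congr ConjClasses.mk_eq_mk_iff_isConj rfl rfl
    rw [Finset.sum_congr rfl fun g _ => h11 g, h5, zero_mul]
  · refine Finset.sum_eq_zero fun g hg => ?_
    exact absurd ⟨g, (Finset.mem_filter.1 hg).2⟩ hκ

end main

section zmod

variable {Λ : Type} [Field Λ] [Finite Λ] {ℓ : ℕ} [hp : Fact ℓ.Prime] [CharP Λ ℓ] {G : Type u} [Group G] [Finite G]

/-- The character of `ℤ/N` attached to a primitive `N`-th root of unity. -/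
theorem exists_char {N : ℕ} [NeZero N] {ζ : Λ} (hζ : IsPrimitiveRoot ζ N) :
    ∃ χ : Multiplicative (ZMod N) →* Λˣ, (∀ n : ℕ, (χ (Multiplicative.ofAdd (n : ZMod N)) : Λ) = ζ ^ n) ∧
      Function.Injective χ := by
  obtain ⟨u, rfl⟩ := hζ.isUnit (NeZero.ne N)
  have hu : IsPrimitiveRoot u N := IsPrimitiveRoot.coe_units_iff.1 hζ
  let e := hu.zmodEquivZPowers
  let χ : Multiplicative (ZMod N) →* Λˣ :=
    (Subgroup.zpowers u).subtype.comp (AddMonoidHom.toMultiplicativeLeft e.toAddMonoidHom)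
  have h1 : ∀ x : ZMod N, χ (Multiplicative.ofAdd x) = ((e x).toMul : Λˣ) := fun x => rfl
  refine ⟨χ, fun n => ?_, ?_⟩
  · rw [h1, hu.zmodEquivZPowers_apply_coe_nat]
    rfl
  · intro x y hxy
    apply Multiplicative.toAdd.injective
    apply e.injective
    apply Additive.toMul.injective
    exact Subtype.ext hxy

theorem orderOf_dvd {N : ℕ} [NeZero N] {n : ℕ} (hn : 0 < n) (hN : ∃ a, n * Nat.card G ∣ ℓ ^ a * N) (g : G)
    (hg : (orderOf g).Coprime ℓ) : orderOf g ∣ orderOf (Multiplicative.ofAdd (n : ZMod N)) := by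
  rw [orderOf_ofAdd_eq_addOrderOf]
  obtain ⟨a, ha⟩ := hN
  have h1 : N ∣ addOrderOf (n : ZMod N) * n := by
    rw [← ZMod.natCast_eq_zero_iff, Nat.cast_mul, ← nsmul_eq_mul]
    exact addOrderOf_nsmul_eq_zero _
  have h2 : orderOf g ∣ Nat.card G := orderOf_dvd_natCard g
  have h3 : orderOf g * n ∣ (ℓ ^ a * addOrderOf (n : ZMod N)) * n := by
    calc orderOf g * n ∣ n * Nat.card G := by rw [mul_comm]; exact mul_dvd_mul_left n h2
      _ ∣ ℓ ^ a * N := ha
      _ ∣ ℓ ^ a * (addOrderOf (n : ZMod N) * n) := mul_dvd_mul_left _ h1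
      _ = _ := by ring
  have h4 : orderOf g ∣ ℓ ^ a * addOrderOf (n : ZMod N) := Nat.dvd_of_mul_dvd_mul_right hn h3
  exact (hg.pow_right a).dvd_of_dvd_mul_left h4

/-- **Modular Brauer theorem with permutation modules and a twist.**  `G` a finite group, `Λ` a finite field of
characteristic `ℓ` with a primitive `N`-th root of unity `ζ`, `χ` the corresponding character of `ℤ/N`.  If
`n * |G|` divides `ℓ ^ a * N`, an additive invariant `D` of the representations of `G × ℤ/N` over `Λ` with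
`D (ρ ⊗ χ) = ζ ^ n * D ρ` which vanishes on permutation modules is zero. -/
theorem eq_zero_zmod {N : ℕ} [NeZero N] {ζ : Λ} {n : ℕ} (hn : 0 < n)
    (hN : ∃ a, n * Nat.card G ∣ ℓ ^ a * N) {χ : Multiplicative (ZMod N) →* Λˣ}
    (hχn : (χ (Multiplicative.ofAdd (n : ZMod N)) : Λ) = ζ ^ n) (hχ : Function.Injective χ)
    {D : RInv Λ (G × Multiplicative (ZMod N))} (hD : IsAdd D)
    (htw : ∀ (M : Type) [AddCommGroup M] [Module Λ M] [Module.Finite Λ M]
      (ρ : Representation Λ (G × Multiplicative (ZMod N)) M),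
      D M (twist (χ.comp (MonoidHom.snd G (Multiplicative (ZMod N)))) ρ) = ζ ^ n * D M ρ)
    (hperm : ∀ (X : Type) [Finite X] [Nonempty X] [MulAction (G × Multiplicative (ZMod N)) X]
      [MulAction.IsPretransitive (G × Multiplicative (ZMod N)) X],
      D (X → Λ) (permRep Λ (G × Multiplicative (ZMod N)) X) = 0)
    (M : Type) [AddCommGroup M] [Module Λ M] [Module.Finite Λ M]
    (ρ : Representation Λ (G × Multiplicative (ZMod N)) M) : D M ρ = 0 :=
  eq_zero (ℓ := ℓ) (c₀ := Multiplicative.ofAdd (n : ZMod N)) hD hχ (orderOf_dvd hn hN)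
    (fun M _ _ _ ρ => by rw [htw, hχn]) hperm M ρ

end zmod

end Groth.Agent.Sga4h.H222.ModBrauer
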