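import Groth.Agent.Sga4h.H222.Tors
import Groth.Agent.Sga4h.H222.LamLC
import Groth.Agent.Sga4h.H222.ModBrauer
import Groth.Agent.RedSub.H647.FreeQ
import Groth.Agent.S2907
import Groth.Agent.S2911
import Groth.Agent.S2925

/-!
# Permutation modules and direct images

`q : W ⟶ U` a torsor under a finite group `Γ`, `U` locally Noetherian, `X` a finite transitive `Γ`-set: the sheaf
attached to the permutation module of `X` is the direct image of the constant sheaf along a finite étale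
morphism `π : Y ⟶ U` (`Y = W/K`, `K` the stabiliser of a point).
-/

set_option autoImplicit false
set_option linter.unusedVariables false
universe u w
open CategoryTheory CategoryTheory.Limits AlgebraicGeometry Opposite

namespace Groth.Agent.Sga4h.H222.PermCover

open Groth.Agent.Sga4B.ConstLC Groth.Agent.Sga5.H851.FunSheaf Groth.Agent.Sga5.H851
  Groth.Agent.Sga4h.H222.ThetaLam Groth.Agent.Sga4h.H222.LamLC Groth.Agent.Sga4h.H222.Tors
  Groth.Agent.Pi1.H416.PrincDesc

/-- The quotient of a torsor by a subgroup. -/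
structure Quo {U W : Scheme.{u}} (q : W ⟶ U) {Γ : Type w} [Group Γ] (ρ : Γ →* Aut W) (K : Subgroup Γ) where
  Y : Scheme.{u}
  p : W ⟶ Y
  π : Y ⟶ U
  fac : p ≫ π = q
  finπ : IsFinite π
  etπ : Etale π
  surj : Surjective p
  etp : Etale p
  inv : ∀ k ∈ K, (ρ k).hom ≫ p = p
  orb : ∀ (Ω : Type u) [Field Ω] [IsAlgClosed Ω] (s t : Spec (CommRingCat.of Ω) ⟶ W), s ≫ p = t ≫ p →
    ∃ k ∈ K, s ≫ (ρ k).hom = t

theorem exists_quo {U W : Scheme.{u}} {q : W ⟶ U} {Γ : Type u} [Group Γ] [Finite Γ] {ρ : Γ →* Aut W}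
    (H : IsTors q ρ) [IsLocallyNoetherian U] (K : Subgroup Γ) : Nonempty (Quo q ρ K) := by
  have hf := H.fin
  have he := H.et
  let ρK : K →* Aut W := ρ.comp K.subtype
  have hρK : ∀ k : K, (ρK k).hom ≫ q = q := fun k => H.inv k
  obtain ⟨Y, p, hp⟩ := Groth.Agent.S2907.result ρK (by
    intro x
    obtain ⟨_, ⟨O, hO, rfl⟩, hx, -⟩ := U.isBasis_affineOpens.exists_subset_of_mem_open
      (Set.mem_univ (q x)) isOpen_univ
    refine ⟨q ⁻¹ᵁ O, hO.preimage q, fun g => ?_⟩
    change q ((ρK g).hom x) ∈ O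
    rw [← Scheme.Hom.comp_apply, hρK]
    exact hx)
  obtain ⟨π, hπ, -⟩ := Groth.Agent.S2925.result ρK p hp U q hρK
  obtain ⟨h1, h2, h3⟩ := Groth.Agent.S2911.result ρK q hρK p hp π hπ
  have hfree : Groth.Agent.Sga1.FreeQuotSch.IsFree ρK := fun Ω _ _ ξ k hk =>
    Subtype.ext (H.isFree ξ (k : Γ) hk)
  refine ⟨⟨Y, p, π, hπ, h3 hf, h2, Groth.Agent.Sga1.FreeQuotSch.surjective_of_isQuot hp, h1,
    fun k hk => hp.inv ⟨k, hk⟩, fun Ω _ _ s t hst => ?_⟩⟩
  obtain ⟨O, hO, k, hk⟩ := Groth.Agent.RedSub.H647.FreeQ.exists_local hp hfree s t hst default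
  refine ⟨k, k.2, ?_⟩
  have hOtop : O = ⊤ := by
    ext x
    exact ⟨fun _ => trivial, fun _ => by rwa [Subsingleton.elim x default]⟩
  subst hOtop
  have : IsIso (⊤ : (Spec (CommRingCat.of Ω)).Opens).ι := (Scheme.topIso (Spec (CommRingCat.of Ω))).isIso_hom
  rw [← cancel_epi (⊤ : (Spec (CommRingCat.of Ω)).Opens).ι]
  exact hk.symm

section

variable {U W : Scheme.{u}} {q : W ⟶ U} {Γ : Type w} [Group Γ] {ρ : Γ →* Aut W} (H : IsTors q ρ)
  {K : Subgroup Γ} (Q : Quo q ρ K)

/-- The map `V ×_U W ⟶ V ×_U W/K`. -/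
noncomputable def cV (V : U.Etale) : P q V ⟶ P Q.π V :=
  (isPullback Q.π V).lift (pf q V) (ps q V ≫ Q.p) (by
    rw [Category.assoc, Q.fac, (isPullback q V).w])

@[reassoc (attr := simp)]
theorem cV_pf (V : U.Etale) : cV Q V ≫ pf Q.π V = pf q V := (isPullback Q.π V).lift_fst _ _ _

@[reassoc (attr := simp)]
theorem cV_ps (V : U.Etale) : cV Q V ≫ ps Q.π V = ps q V ≫ Q.p := (isPullback Q.π V).lift_snd _ _ _

theorem isPullback_cV (V : U.Etale) : IsPullback (cV Q V) (ps q V) (ps Q.π V) Q.p := by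
  refine IsPullback.of_right ?_ (cV_ps Q V) (isPullback Q.π V)
  rw [cV_pf, Q.fac]
  exact isPullback q V

theorem etale_cV (V : U.Etale) : Etale (cV Q V) := by
  have := Q.etp
  exact MorphismProperty.of_isPullback (P := @Etale) (isPullback_cV Q V).flip inferInstance

theorem surjective_cV (V : U.Etale) : Surjective (cV Q V) := by
  have := Q.surj
  exact MorphismProperty.of_isPullback (P := @Surjective) (isPullback_cV Q V).flip inferInstance

theorem cV_nat {V' V : U.Etale} (β : V' ⟶ V) : cV Q V' ≫ pmap Q.π β = pmap q β ≫ cV Q V := by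
  apply P_hom_ext
  · simp only [Category.assoc, pmap_pf, cV_pf, cV_pf_assoc]
  · simp only [Category.assoc, pmap_ps, cV_ps]
    rw [← Category.assoc (pmap q β), pmap_ps]

theorem γ_cV (V : U.Etale) {k : Γ} (hk : k ∈ K) : γ q ρ H.inv V k ≫ cV Q V = cV Q V := by
  apply P_hom_ext
  · simp only [Category.assoc, cV_pf, γ_pf]
  · simp only [Category.assoc, cV_ps, γ_ps_assoc, Q.inv k hk]

theorem exists_eq_γ (V : U.Etale) {z₁ z₂ : P q V} (h : cV Q V z₁ = cV Q V z₂) :
    ∃ k ∈ K, γ q ρ H.inv V k z₁ = z₂ := by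
  obtain ⟨y, hy1, hy2⟩ := Scheme.Pullback.exists_preimage_pullback (f := cV Q V) (g := cV Q V) z₁ z₂ h
  obtain ⟨Ω, _, _, s, hs⟩ := exists_geomPt _ y
  obtain ⟨k, hk, hk2⟩ := Q.orb Ω (s ≫ pullback.fst _ _ ≫ ps q V) (s ≫ pullback.snd _ _ ≫ ps q V) (by
    simp only [Category.assoc]
    rw [← cV_ps, ← pullback.condition_assoc])
  refine ⟨k, hk, ?_⟩
  have e : (s ≫ pullback.fst (cV Q V) (cV Q V)) ≫ γ q ρ H.inv V k = s ≫ pullback.snd (cV Q V) (cV Q V) := by
    apply P_hom_ext
    · simp only [Category.assoc, γ_pf]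
      rw [← cV_pf Q V, pullback.condition_assoc]
    · simp only [Category.assoc, γ_ps]
      simpa only [Category.assoc] using hk2
  rw [← hy1, ← hy2, ← hs default, ← Scheme.Hom.comp_apply, ← Scheme.Hom.comp_apply, ← Scheme.Hom.comp_apply, ← e,
    Category.assoc]

end

section perm

variable {U W : Scheme.{u}} {q : W ⟶ U} {Γ : Type w} [Group Γ] {ρ : Γ →* Aut W} (H : IsTors q ρ)
  (Λ : Type) [Field Λ] {X : Type} [MulAction Γ X] [MulAction.IsPretransitive Γ X] (x₀ : X)
  (Q : Quo q ρ (MulAction.stabilizer Γ x₀))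

/-- A representative. -/
noncomputable def rr (x : X) : Γ := (MulAction.exists_smul_eq Γ x₀ x).choose

theorem rr_spec (x : X) : rr (Γ := Γ) x₀ x • x₀ = x := (MulAction.exists_smul_eq Γ x₀ x).choose_spec

/-- The function attached to a function on `V ×_U W/K`. -/
noncomputable def toFn {V : U.Etale} (F : P Q.π V → Λ) (z : P q V) (x : X) : Λ :=
  F (cV Q V (γ q ρ H.inv V (rr (Γ := Γ) x₀ x)⁻¹ z))

omit [Field Λ] in
theorem toFn_eq {V : U.Etale} (F : P Q.π V → Λ) (z : P q V) (x : X) (g : Γ) (hg : g • x₀ = x) :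
    toFn H Λ x₀ Q F z x = F (cV Q V (γ q ρ H.inv V g⁻¹ z)) := by
  have hk : (rr (Γ := Γ) x₀ x)⁻¹ * g ∈ MulAction.stabilizer Γ x₀ := by
    rw [MulAction.mem_stabilizer_iff, mul_smul, hg, inv_smul_eq_iff, rr_spec]
  have h1 : (rr (Γ := Γ) x₀ x)⁻¹ = ((rr (Γ := Γ) x₀ x)⁻¹ * g) * g⁻¹ := by group
  rw [toFn, h1, γ_mul_apply, ← Scheme.Hom.comp_apply, γ_cV H Q V hk]

theorem isLocallyConstant_pi {T : Type*} [TopologicalSpace T] {X : Type} [Finite X] {A : Type*} {f : T → X → A}
    (h : ∀ x, IsLocallyConstant fun z => f z x) : IsLocallyConstant f := by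
  let tA : TopologicalSpace A := ⊥
  have : DiscreteTopology A := ⟨rfl⟩
  rw [IsLocallyConstant.iff_continuous]
  exact continuous_pi fun x => (h x).continuous

omit [Field Λ] in
theorem isLocallyConstant_toFn [Finite X] {V : U.Etale} {F : P Q.π V → Λ} (hF : IsLocallyConstant F) :
    IsLocallyConstant (toFn H Λ x₀ Q F) :=
  isLocallyConstant_pi fun x => (hF.comp_continuous (cV Q V).continuous).comp_continuous
    (γ q ρ H.inv V (rr (Γ := Γ) x₀ x)⁻¹).continuous

theorem toFn_γ {V : U.Etale} (F : P Q.π V → Λ) (g : Γ) (z : P q V) :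
    toFn H Λ x₀ Q F (γ q ρ H.inv V g z) = ModBrauer.permRep Λ Γ X g (toFn H Λ x₀ Q F z) := by
  funext x
  rw [ModBrauer.permRep_apply, toFn_eq H Λ x₀ Q F z (g⁻¹ • x) (g⁻¹ * rr (Γ := Γ) x₀ x)
    (by rw [mul_smul, rr_spec]), toFn, mul_inv_rev, inv_inv, γ_mul_apply]

variable [Finite X]

/-- The morphism from the direct image. -/
noncomputable def permHom :
    (EtCoh.push Q.π).obj (LC Q.Y (ULift.{u + 1} Λ)) ⟶ Th q ρ H.inv (ModBrauer.permRep Λ Γ X) where
  hom :=
    { app := fun V => AddCommGrpCat.ofHom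
        { toFun := fun (F : LocallyConstant (P Q.π V.unop) (ULift.{u + 1} Λ)) =>
            ThetaLam.mk q ρ H.inv (ModBrauer.permRep Λ Γ X) (V := V.unop)
              (toFn H Λ x₀ Q fun y => (F y).down)
              (isLocallyConstant_toFn H Λ x₀ Q (F.isLocallyConstant.comp ULift.down))
              (fun g z => toFn_γ H Λ x₀ Q _ g z)
          map_zero' := rfl
          map_add' := fun _ _ => rfl }
      naturality := fun V V' β => by
        ext F
        refine val_ext q ρ H.inv (ModBrauer.permRep Λ Γ X) (V := V'.unop) fun z => ?_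
        funext x
        let F' : LocallyConstant (P Q.π V.unop) (ULift.{u + 1} Λ) := F
        change (F' (pmap Q.π β.unop (cV Q V'.unop (γ q ρ H.inv V'.unop _ z)))).down =
          (F' (cV Q V.unop (γ q ρ H.inv V.unop _ (pmap q β.unop z)))).down
        rw [← Scheme.Hom.comp_apply, cV_nat, Scheme.Hom.comp_apply, pmap_γ_apply] }

theorem val_permHom {V : U.Etale} (F : ((EtCoh.push Q.π).obj (LC Q.Y (ULift.{u + 1} Λ))).obj.obj (op V))
    (z : P q V) (x : X) :
    val q ρ H.inv (ModBrauer.permRep Λ Γ X) ((permHom H Λ x₀ Q).hom.app (op V) F) z x =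
      (DFunLike.coe (F := LocallyConstant (P Q.π V) (ULift.{u + 1} Λ)) F
        (cV Q V (γ q ρ H.inv V (rr (Γ := Γ) x₀ x)⁻¹ z))).down := rfl

theorem bijective_permHom (V : U.Etale) : Function.Bijective ((permHom H Λ x₀ Q).hom.app (op V)) := by
  have hs := surjective_cV Q V
  have he := etale_cV Q V
  constructor
  · intro F F' h
    let F₁ : LocallyConstant (P Q.π V) (ULift.{u + 1} Λ) := F
    let F₂ : LocallyConstant (P Q.π V) (ULift.{u + 1} Λ) := F'
    change F₁ = F₂
    refine LocallyConstant.ext fun y => ?_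
    obtain ⟨z, rfl⟩ := hs.surj y
    have h1 := congrArg (fun t => val q ρ H.inv (ModBrauer.permRep Λ Γ X) t
      (γ q ρ H.inv V (rr (Γ := Γ) x₀ x₀) z) x₀) h
    simp only [val_permHom, γ_inv_apply] at h1
    exact ULift.down_injective h1
  · intro s
    -- the function `z ↦ s z x₀` descends
    let f : P q V → Λ := fun z => val q ρ H.inv (ModBrauer.permRep Λ Γ X) s z x₀
    have hf : ∀ k ∈ MulAction.stabilizer Γ x₀, ∀ z, f (γ q ρ H.inv V k z) = f z := by
      intro k hk z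
      change val q ρ H.inv (ModBrauer.permRep Λ Γ X) s (γ q ρ H.inv V k z) x₀ = _
      rw [val_γ, ModBrauer.permRep_apply, inv_smul_eq_iff.2 (MulAction.mem_stabilizer_iff.1 hk).symm]
    have hlc : IsLocallyConstant f :=
      (isLocallyConstant_val q ρ H.inv (ModBrauer.permRep Λ Γ X) s).comp (fun m => m x₀)
    have hdesc : ∀ z z' : P q V, cV Q V z = cV Q V z' → f z = f z' := by
      intro z z' h
      obtain ⟨k, hk, rfl⟩ := exists_eq_γ H Q V h
      exact (hf k hk z).symm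
    let F : P Q.π V → Λ := fun y => f (hs.surj y).choose
    have hF : ∀ z, F (cV Q V z) = f z := fun z => hdesc _ _ (hs.surj (cV Q V z)).choose_spec
    have hFlc : IsLocallyConstant F := by
      intro S
      have h1 : F ⁻¹' S = cV Q V '' (f ⁻¹' S) := by
        ext y
        constructor
        · intro hy
          obtain ⟨z, rfl⟩ := hs.surj y
          exact ⟨z, by rw [Set.mem_preimage, ← hF]; exact hy, rfl⟩
        · rintro ⟨z, hz, rfl⟩
          rw [Set.mem_preimage, hF]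
          exact hz
      rw [h1]
      exact (cV Q V).isOpenMap _ (hlc S)
    refine ⟨(⟨fun y => ⟨F y⟩, hFlc.comp ULift.up⟩ : LocallyConstant (P Q.π V) (ULift.{u + 1} Λ)), ?_⟩
    refine val_ext q ρ H.inv (ModBrauer.permRep Λ Γ X) fun z => ?_
    funext x
    refine (val_permHom H Λ x₀ Q _ z x).trans ?_
    change F (cV Q V (γ q ρ H.inv V (rr (Γ := Γ) x₀ x)⁻¹ z)) = _
    rw [hF]
    change val q ρ H.inv (ModBrauer.permRep Λ Γ X) s (γ q ρ H.inv V (rr (Γ := Γ) x₀ x)⁻¹ z) x₀ = _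
    rw [val_γ, ModBrauer.permRep_apply, inv_inv, rr_spec]

/-- **Permutation modules are direct images.** -/
theorem perm_iso : IsoLam (EtLam.pushforward Q.π (FinFr.constLam Λ Q.Y))
    (thetaLam q ρ H.inv (ModBrauer.permRep Λ Γ X)) := by
  refine ((constLam_iso Q.Y).push Q.π).trans ?_
  have h : IsIso (permHom H Λ x₀ Q) :=
    isIso_of_bijective (permHom H Λ x₀ Q) (bijective_permHom H Λ x₀ Q)
  refine ⟨@asIso _ _ _ _ (permHom H Λ x₀ Q) h, fun r => ?_⟩
  rfl

end perm

end Groth.Agent.Sga4h.H222.PermCover
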