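import Groth.Agent.Sga4h.H222.EssImage
import Groth.Agent.Sga5.H833.GalCover

/-!
# The sheaves attached to finite representations are finite locally constant
-/

set_option autoImplicit false
set_option linter.unusedVariables false
set_option linter.unusedSectionVars false
universe u w w'
open CategoryTheory CategoryTheory.Limits AlgebraicGeometry Opposite

namespace Groth.Agent.Sga4h.H222.ThetaFlc

open Groth.Agent.Sga4B.ConstLC Groth.Agent.Sga5.H851.FunSheaf Groth.Agent.Sga5.H851
  Groth.Agent.Sga4h.H222.ThetaLam Groth.Agent.Sga4h.H222.LamLC Groth.Agent.Sga4h.H222.Tors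
  Groth.Agent.Pi1.H416.PrincDesc

variable {U W : Scheme.{u}} {q : W ⟶ U} {Γ : Type w} [Group Γ] {ρ : Γ →* Aut W} (H : IsTors q ρ)
  {Λ : Type} [CommRing Λ] {M : Type} [AddCommGroup M] [Module Λ M] (σ : Representation Λ Γ M)

/-- An étale `W`-scheme, over `U`. -/
noncomputable abbrev cE (V : H.obj.left.Etale) : U.Etale := (EtShriek.compEtale H.obj.hom).obj V

/-- The trivialisation. -/
noncomputable def tr (V : H.obj.left.Etale) : ThetaLoc.Triv q ρ H.inv ∅ (cE H V) :=
  H.triv (V := cE H V) V.hom rfl

theorem tr_nat {V' V : H.obj.left.Etale} (δ : V' ⟶ V) :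
    (tr H V').s ≫ pmap q ((EtShriek.compEtale H.obj.hom).map δ) =
      ((EtShriek.compEtale H.obj.hom).map δ).left ≫ (tr H V).s := by
  have e1 : (tr H V').s ≫ pf q (cE H V') = 𝟙 _ := sec_pf _ _
  have e2 : (tr H V).s ≫ pf q (cE H V) = 𝟙 _ := sec_pf _ _
  have e3 : (tr H V').s ≫ ps q (cE H V') = V'.hom := sec_ps _ _
  have e4 : (tr H V).s ≫ ps q (cE H V) = V.hom := sec_ps _ _
  apply P_hom_ext
  · rw [Category.assoc, pmap_pf, ← Category.assoc, e1, Category.assoc, e2]
    exact (Category.id_comp _).trans (Category.comp_id _).symm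
  · rw [Category.assoc, pmap_ps, e3, Category.assoc, e4]
    exact (MorphismProperty.Over.w δ).symm

/-- The restriction of `Th` to `W`. -/
noncomputable def restrHom :
    (EtShriek.restrAlong H.obj.hom).obj (Th q ρ H.inv σ) ⟶ LC H.obj.left (ULift.{u + 1} M) where
  hom :=
    { app := fun V => AddCommGrpCat.ofHom
        ((tr H V.unop).secEquiv (ulAct σ)).toAddMonoidHom
      naturality := fun V V' δ => by
        ext s
        refine LocallyConstant.ext fun x => ?_
        let s' : Theta.Sec q ρ H.inv ∅ (ulAct σ) (cE H V.unop) := s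
        change s'.1 (pmap q ((EtShriek.compEtale H.obj.hom).map δ.unop) ((tr H V'.unop).s x)) =
          s'.1 ((tr H V.unop).s (δ.unop.left x))
        rw [← Scheme.Hom.comp_apply, tr_nat]
        rfl }

theorem bijective_restrHom (V : H.obj.left.Etale) : Function.Bijective ((restrHom H σ).hom.app (op V)) :=
  ((tr H V).secEquiv (ulAct σ)).bijective

/-- The inverse image of `Th` is constant. -/
theorem nonempty_pull : Nonempty ((EtCoh.pull q).obj (Th q ρ H.inv σ) ≅ EtCoh.const W M) := by
  have := H.et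
  have h : IsIso (restrHom H σ) := isIso_of_bijective (restrHom H σ) (bijective_restrHom H σ)
  exact ⟨(EtpbcA.OverSite.pullIsoRestr q).app (Th q ρ H.inv σ) ≪≫ @asIso _ _ _ _ (restrHom H σ) h ≪≫
    (constIso W M).symm⟩

/-- The sheaf attached to a finite representation is finite locally constant. -/
theorem flc_theta [Finite M] : EtCoh.IsFiniteLocallyConstant (thetaLam q ρ H.inv σ).carrier := by
  refine ⟨PUnit, fun _ => H.obj, fun x => ?_, fun _ => ⟨M, inferInstance, inferInstance, ?_⟩⟩
  · obtain ⟨w, hw⟩ := H.surj.surj x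
    exact ⟨⟨⟩, w, hw⟩
  · exact (EtpbcA.OverSite2.restr_iso_const_iff H.obj (Th q ρ H.inv σ) _).2 (nonempty_pull H σ)

end Groth.Agent.Sga4h.H222.ThetaFlc
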