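import Groth.Agent.Sga4h.H222.Tors
import Groth.Agent.Sga4h.H222.LamLC
import Groth.Agent.Sga4h.H222.ModBrauer

/-!
# Twisting by characters of a quotient torsor

* `TwData c s ζ L L'`: for `c : U' ⟶ U` and `s : U' ⟶ U'` over `U`, an isomorphism between the restrictions of `L`
  and `L'` to `U'`, in terms of sections, which is multiplied by `ζ` by `s`.
* `twTheta`: such data between the sheaves attached to a representation and its twist.
-/

set_option autoImplicit false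
set_option linter.unusedVariables false
universe u w w'
open CategoryTheory CategoryTheory.Limits AlgebraicGeometry Opposite

namespace Groth.Agent.Sga4h.H222.Twist

open Groth.Agent.Sga4B.ConstLC Groth.Agent.Sga5.H851.FunSheaf Groth.Agent.Sga5.H851
  Groth.Agent.Sga4h.H222.ThetaLam Groth.Agent.Sga4h.H222.LamLC Groth.Agent.Sga4h.H222.Tors
  Groth.Agent.Pi1.H416.PrincDesc

/-- `L'` is the twist of `L`: an isomorphism of the restrictions to `c : U' ⟶ U` (given on sections over the étale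
`V` with a morphism `t : V ⟶ U'`), `Λ`-linear, natural, and multiplied by `ζ` under `s : U' ⟶ U'`. -/
structure TwData {Λ : Type} [CommRing Λ] {U U' : Scheme.{u}} (c : U' ⟶ U) (s : U' ⟶ U') (ζ : Λ)
    (L L' : EtLam.Sheaf Λ U) where
  φ : ∀ (V : U.Etale) (t : V.left ⟶ U'), t ≫ c = V.hom →
    (L.carrier.obj.obj (op V) ≃+ L'.carrier.obj.obj (op V))
  nat : ∀ {V' V : U.Etale} (β : V' ⟶ V) (t : V.left ⟶ U') (h : t ≫ c = V.hom)
    (h' : (β.left ≫ t) ≫ c = V'.hom) (x : L.carrier.obj.obj (op V)),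
    φ V' (β.left ≫ t) h' (L.carrier.obj.map β.op x) = L'.carrier.obj.map β.op (φ V t h x)
  lin : ∀ (V : U.Etale) (t : V.left ⟶ U') (h : t ≫ c = V.hom) (r : Λ) (x : L.carrier.obj.obj (op V)),
    φ V t h ((L.act r).hom.app (op V) x) = (L'.act r).hom.app (op V) (φ V t h x)
  tw : ∀ (V : U.Etale) (t : V.left ⟶ U') (h : t ≫ c = V.hom) (h' : (t ≫ s) ≫ c = V.hom)
    (x : L.carrier.obj.obj (op V)),
    φ V (t ≫ s) h' x = (L'.act ζ).hom.app (op V) (φ V t h x)

section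

variable {U U' W : Scheme.{u}} {q : W ⟶ U} {Γ : Type w} [Group Γ] {ρ : Γ →* Aut W} (H : IsTors q ρ)
  {c : U' ⟶ U} {C : Type w'} [Group C] {τ : C →* Aut U'} (Hc : IsTors c τ)
  (r' : W ⟶ U') (hr : r' ≫ c = q) (ψ : Γ →* C) (hψ : ∀ g, (ρ g).hom ≫ r' = r' ≫ (τ (ψ g)).hom)

include hr in
theorem cond {V : U.Etale} (t : V.left ⟶ U') (ht : t ≫ c = V.hom) :
    (pf q V ≫ t) ≫ c = (ps q V ≫ r') ≫ c := by
  rw [Category.assoc, ht, Category.assoc, hr, (isPullback q V).w]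

/-- The index. -/
noncomputable def dl {V : U.Etale} (t : V.left ⟶ U') (ht : t ≫ c = V.hom) : LocallyConstant (P q V) C :=
  Hc.idx (pf q V ≫ t) (ps q V ≫ r') (cond r' hr t ht)

include H hψ in
theorem dl_γ {V : U.Etale} (t : V.left ⟶ U') (ht : t ≫ c = V.hom) (g : Γ) (z : P q V) :
    dl Hc r' hr t ht (γ q ρ H.inv V g z) = ψ g * dl Hc r' hr t ht z := by
  obtain ⟨Ω, _, _, s, hs⟩ := exists_geomPt (P q V) z
  have h1 : γ q ρ H.inv V g z = (s ≫ γ q ρ H.inv V g) default := by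
    rw [Scheme.Hom.comp_apply, hs]
  have h2 := Hc.idx_spec (pf q V ≫ t) (ps q V ≫ r') (cond r' hr t ht) s default
  rw [h1, dl, Hc.idx_eq_iff, ρ_mul]
  rw [hs] at h2
  simp only [Category.assoc, γ_pf_assoc, γ_ps_assoc, hψ]
  have h3 := congrArg (· ≫ (τ (ψ g)).hom) h2
  simpa only [Category.assoc] using h3

theorem dl_map {V' V : U.Etale} (β : V' ⟶ V) (t : V.left ⟶ U') (ht : t ≫ c = V.hom)
    (h' : (β.left ≫ t) ≫ c = V'.hom) (z : P q V') :
    dl Hc r' hr (β.left ≫ t) h' z = dl Hc r' hr t ht (pmap q β z) := by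
  have h1 := Hc.idx_comp (pf q V ≫ t) (ps q V ≫ r') (cond r' hr t ht) (pmap q β) (by
    simp only [Category.assoc, ht, hr, (isPullback q V).w]) z
  rw [dl, dl, ← h1]
  exact Hc.idx_congr _ _ _ (by rw [← Category.assoc, ← pmap_pf, Category.assoc])
    (by rw [← Category.assoc, pmap_ps]) _ _

theorem dl_s {V : U.Etale} (t : V.left ⟶ U') (ht : t ≫ c = V.hom) (c₁ : C)
    (h' : (t ≫ (τ c₁).hom) ≫ c = V.hom) (z : P q V) :
    dl Hc r' hr (t ≫ (τ c₁).hom) h' z = dl Hc r' hr t ht z * c₁⁻¹ := by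
  have h1 := Hc.idx_act_left (pf q V ≫ t) (ps q V ≫ r') (cond r' hr t ht) c₁ (by
    simp only [Category.assoc, Hc.inv]
    rw [ht, hr, (isPullback q V).w]) z
  rw [dl, dl, ← h1]
  exact Hc.idx_congr _ _ _ (by rw [Category.assoc]) rfl _ _

end

section theta

variable {U U' W : Scheme.{u}} {q : W ⟶ U} {Γ : Type w} [Group Γ] {ρ : Γ →* Aut W} (H : IsTors q ρ)
  {c : U' ⟶ U} {C : Type w'} [Group C] {τ : C →* Aut U'} (Hc : IsTors c τ)
  (r' : W ⟶ U') (hr : r' ≫ c = q) (ψ : Γ →* C) (hψ : ∀ g, (ρ g).hom ≫ r' = r' ≫ (τ (ψ g)).hom)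
  {Λ : Type} [Field Λ] (χ : C →* Λˣ) {M : Type} [AddCommGroup M] [Module Λ M] (σ : Representation Λ Γ M)

/-- Multiplication of sections by the character of the index. -/
noncomputable def phi {V : U.Etale} (t : V.left ⟶ U') (ht : t ≫ c = V.hom) :
    (Th q ρ H.inv σ).obj.obj (op V) ≃+ (Th q ρ H.inv (ModBrauer.twist (χ.comp ψ) σ)).obj.obj (op V) where
  toFun f := ThetaLam.mk q ρ H.inv (ModBrauer.twist (χ.comp ψ) σ)
    (fun z => (χ (dl Hc r' hr t ht z) : Λ) • val q ρ H.inv σ f z) (by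
      have h1 : IsLocallyConstant (fun z : P q V => (dl Hc r' hr t ht z, val q ρ H.inv σ f z)) :=
        IsLocallyConstant.prodMk (dl Hc r' hr t ht).isLocallyConstant (isLocallyConstant_val q ρ H.inv σ f)
      exact h1.comp (fun p : C × M => (χ p.1 : Λ) • p.2)) (fun g z => by
      rw [dl_γ H Hc r' hr ψ hψ, val_γ, map_mul, ModBrauer.twist_apply, Units.val_mul, mul_smul,
        (σ g).map_smul]
      rfl)
  invFun f := ThetaLam.mk q ρ H.inv σ
    (fun z => ((χ (dl Hc r' hr t ht z))⁻¹ : Λˣ) • val q ρ H.inv (ModBrauer.twist (χ.comp ψ) σ) f z) (by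
      have h1 : IsLocallyConstant (fun z : P q V => (dl Hc r' hr t ht z,
          val q ρ H.inv (ModBrauer.twist (χ.comp ψ) σ) f z)) :=
        IsLocallyConstant.prodMk (dl Hc r' hr t ht).isLocallyConstant
          (isLocallyConstant_val q ρ H.inv (ModBrauer.twist (χ.comp ψ) σ) f)
      exact h1.comp (fun p : C × M => ((χ p.1)⁻¹ : Λˣ) • p.2)) (fun g z => by
      rw [dl_γ H Hc r' hr ψ hψ, val_γ, map_mul, ModBrauer.twist_apply, mul_inv_rev, mul_smul]
      have h2 : ((χ (ψ g))⁻¹ : Λˣ) • (((χ.comp ψ) g : Λˣ) : Λ) • σ g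
          (val q ρ H.inv (ModBrauer.twist (χ.comp ψ) σ) f z) =
          σ g (val q ρ H.inv (ModBrauer.twist (χ.comp ψ) σ) f z) := inv_smul_smul (χ (ψ g)) _
      rw [h2]
      exact ((σ g).map_smul _ _).symm)
  left_inv f := val_ext q ρ H.inv σ fun z => inv_smul_smul (χ (dl Hc r' hr t ht z)) _
  right_inv f := val_ext q ρ H.inv (ModBrauer.twist (χ.comp ψ) σ) fun z =>
    smul_inv_smul (χ (dl Hc r' hr t ht z)) _
  map_add' f f' := val_ext q ρ H.inv (ModBrauer.twist (χ.comp ψ) σ) fun z => smul_add _ _ _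

theorem val_phi {V : U.Etale} (t : V.left ⟶ U') (ht : t ≫ c = V.hom) (f : (Th q ρ H.inv σ).obj.obj (op V))
    (z : P q V) : val q ρ H.inv (ModBrauer.twist (χ.comp ψ) σ) (phi H Hc r' hr ψ hψ χ σ t ht f) z =
      (χ (dl Hc r' hr t ht z) : Λ) • val q ρ H.inv σ f z := rfl

/-- **The twist.** -/
noncomputable def twTheta (c₁ : C) : TwData c (τ c₁).hom (((χ c₁)⁻¹ : Λˣ) : Λ) (thetaLam q ρ H.inv σ)
    (thetaLam q ρ H.inv (ModBrauer.twist (χ.comp ψ) σ)) where
  φ V t ht := phi H Hc r' hr ψ hψ χ σ t ht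
  nat {V' V} β t h h' x := val_ext q ρ H.inv (ModBrauer.twist (χ.comp ψ) σ) fun z => by
    change (χ (dl Hc r' hr (β.left ≫ t) h' z) : Λ) • val q ρ H.inv σ (V := V) x (pmap q β z) =
      (χ (dl Hc r' hr t h (pmap q β z)) : Λ) • val q ρ H.inv σ (V := V) x (pmap q β z)
    rw [dl_map Hc r' hr β t h h']
  lin V t h r x := val_ext q ρ H.inv (ModBrauer.twist (χ.comp ψ) σ) fun z => by
    change (χ (dl Hc r' hr t h z) : Λ) • r • val q ρ H.inv σ (V := V) x z =
      r • (χ (dl Hc r' hr t h z) : Λ) • val q ρ H.inv σ (V := V) x z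
    rw [smul_comm]
  tw V t h h' x := val_ext q ρ H.inv (ModBrauer.twist (χ.comp ψ) σ) fun z => by
    change (χ (dl Hc r' hr (t ≫ (τ c₁).hom) h' z) : Λ) • val q ρ H.inv σ (V := V) x z =
      (((χ c₁)⁻¹ : Λˣ) : Λ) • (χ (dl Hc r' hr t h z) : Λ) • val q ρ H.inv σ (V := V) x z
    rw [dl_s Hc r' hr t h, map_mul, map_inv, mul_comm, Units.val_mul, mul_smul]

end theta

end Groth.Agent.Sga4h.H222.Twist
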