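import Groth.Agent.Sga4h.H222.Twist
import Groth.Agent.Sga4h.H222.PermCover
import Groth.Agent.Sga4h.H222.Infl
import Groth.Agent.Sga4h.H222.EssImage
import Groth.Agent.Sga4h.H222.ThetaFlc
import Groth.Agent.Sga4h.H222.GalCov
import Groth.Agent.EtpbcA.PullFLC
import Groth.Agent.Sga4h.H526.TorsConstr
import Groth.Agent.Sga4h.H912.TwistGal
import Groth.Agent.Sga4h.H912.TwistSec

/-!
# Reduction of the lisse case to constant coefficients

`U` connected, locally Noetherian over a finite field `k`, `Λ` a finite field.  `IsGood a k' ζ n E`: `E` is an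
additive invariant of finite locally constant sheaves of `Λ`-modules on `U` which vanishes on the direct images of
`Λ` under finite étale morphisms and satisfies `E L' = ζ⁻¹ ^ n * E L` if `L'` is the unramified twist of `L` by `ζ`.
`main`: such an invariant vanishes on every sheaf which becomes constant on a given Galois cover of group `G`
if `ζ` is a primitive `N`-th root of unity with `n * |G|` dividing `ℓ ^ b * N`.
-/

set_option autoImplicit false
set_option linter.unusedVariables false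
universe u w w'
open CategoryTheory CategoryTheory.Limits AlgebraicGeometry Opposite

namespace Groth.Agent.Sga4h.H222.Reduce

open Groth.Agent.Sga4B.ConstLC Groth.Agent.Sga5.H851.FunSheaf Groth.Agent.Sga5.H851
  Groth.Agent.Sga4h.H222.ThetaLam Groth.Agent.Sga4h.H222.LamLC Groth.Agent.Sga4h.H222.Tors
  Groth.Agent.Sga4h.H222.RepInv

/-- Invariants of finite locally constant sheaves of `Λ`-modules. -/
structure IsGood {k : Type u} [Field k] [Fintype k] {U : Scheme.{u}} (a : U ⟶ Spec (CommRingCat.of k)) {Λ : Type}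
    [Field Λ] (k' : Type u) [Field k'] [Algebra k k'] [Algebra.IsAlgebraic k k'] (ζ : Λ) (n : ℕ)
    (E : EtLam.Sheaf Λ U → Λ) : Prop where
  iso : ∀ L L' : EtLam.Sheaf Λ U, EtCoh.IsFiniteLocallyConstant L.carrier →
    EtCoh.IsFiniteLocallyConstant L'.carrier → IsoLam L L' → E L = E L'
  add : ∀ (L₁ L₂ L₃ : EtLam.Sheaf Λ U) (f : L₁.carrier ⟶ L₂.carrier) (g : L₂.carrier ⟶ L₃.carrier)
    (h : f ≫ g = 0), (∀ r, L₁.act r ≫ f = f ≫ L₂.act r) → (∀ r, L₂.act r ≫ g = g ≫ L₃.act r) →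
    (ShortComplex.mk f g h).ShortExact → EtCoh.IsFiniteLocallyConstant L₁.carrier →
    EtCoh.IsFiniteLocallyConstant L₂.carrier → EtCoh.IsFiniteLocallyConstant L₃.carrier → E L₂ = E L₁ + E L₃
  const : ∀ (Y : Scheme.{u}) (π : Y ⟶ U) [IsFinite π] [Etale π],
    EtCoh.IsFiniteLocallyConstant (EtLam.pushforward π (FinFr.constLam Λ Y)).carrier →
    E (EtLam.pushforward π (FinFr.constLam Λ Y)) = 0
  tw : ∀ L L' : EtLam.Sheaf Λ U, EtCoh.IsFiniteLocallyConstant L.carrier →
    EtCoh.IsFiniteLocallyConstant L'.carrier → H912.TwistGal.GalTwist a (FinFr.arith k k') ζ L L' →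
    E L' = ζ⁻¹ ^ n * E L

section core

variable {k : Type u} [Field k] [Fintype k] {U : Scheme.{u}} (a : U ⟶ Spec (CommRingCat.of k))
  [IsLocallyNoetherian U] {Λ : Type} [Field Λ] [Finite Λ] {ℓ : ℕ} [hp : Fact ℓ.Prime] [CharP Λ ℓ]
  {V : Scheme.{u}} {q : V ⟶ U} {G : Type u} [Group G] [Finite G] {ρ : G →* Aut V} (H : IsTors q ρ)
  {n N : ℕ} (hn : 0 < n) [NeZero N] (hN : ∃ b, n * Nat.card G ∣ ℓ ^ b * N)
  {k' : Type u} [Field k'] [Algebra k k'] [Module.Finite k k'] (hk' : Module.finrank k k' = N)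
  {ζ : Λ} (hζ : IsPrimitiveRoot ζ N) {E : EtLam.Sheaf Λ U → Λ} (hE : IsGood a k' ζ n E)

include hn hN hk' hζ hE in
/-- The invariant vanishes on the sheaves attached to representations of `G`. -/
theorem theta_eq_zero (M : Type) [AddCommGroup M] [Module Λ M] [Finite M] (σ : Representation Λ G M) :
    E (thetaLam q ρ H.inv σ) = 0 := by
  obtain ⟨ρC, HC, hρC⟩ := H526.TorsConstr.isTors_ext (k := k) (k' := k') hk' a
  obtain ⟨ρΓ, HΓ, h1, h2⟩ := H526.TorsConstr.isTors_prod H HC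
  have hsurjC := HC.surj
  have hr : pullback.snd q (FinFr.extπ k' a) ≫ FinFr.extπ k' a = pullback.fst q (FinFr.extπ k' a) ≫ q :=
    pullback.condition.symm
  have hζ' : IsPrimitiveRoot ζ⁻¹ N := hζ.inv
  obtain ⟨χ, hχn, hχ⟩ := ModBrauer.exists_char hζ'
  have hζ0 : ζ ≠ 0 := hζ.ne_zero (NeZero.ne N)
  let D : RInv Λ (G × Multiplicative (ZMod N)) := fun M _ _ _ ρ' =>
    E (thetaLam (pullback.fst q (FinFr.extπ k' a) ≫ q) ρΓ HΓ.inv ρ')
  have key : D M (σ.comp (MonoidHom.fst G (Multiplicative (ZMod N)))) = 0 := by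
    refine ModBrauer.eq_zero_zmod (ℓ := ℓ) (ζ := ζ⁻¹) (n := n) hn hN (χ := χ) (hχn n) hχ (D := D) ?_ ?_ ?_ M _
    · -- additivity
      intro M₁ M₂ M₃ _ _ _ _ _ _ _ _ _ ρ₁ ρ₂ ρ₃ i p hi hp' hinj hex hsurj
      have : Finite M₁ := Module.finite_of_finite Λ
      have : Finite M₂ := Module.finite_of_finite Λ
      have : Finite M₃ := Module.finite_of_finite Λ
      obtain ⟨h, hs⟩ := shortExact_mapTh HΓ.isRam i p hi hp' hinj hex hsurj
      exact hE.add _ _ _ _ _ h (fun r => mapTh_act _ _ _ _ _ i hi r) (fun r => mapTh_act _ _ _ _ _ p hp' r) hs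
        (ThetaFlc.flc_theta HΓ ρ₁) (ThetaFlc.flc_theta HΓ ρ₂) (ThetaFlc.flc_theta HΓ ρ₃)
    · -- twists
      intro M' _ _ _ ρ'
      have : Finite M' := Module.finite_of_finite Λ
      refine hE.tw _ _ (ThetaFlc.flc_theta HΓ ρ') (ThetaFlc.flc_theta HΓ _) ?_
      have hetC := HC.et
      have h3 := Twist.twTheta HΓ HC (pullback.snd q (FinFr.extπ k' a)) hr (MonoidHom.snd G (Multiplicative (ZMod N)))
        h2 χ ρ' (Multiplicative.ofAdd 1)
      have h4 : (((χ (Multiplicative.ofAdd 1))⁻¹ : Λˣ) : Λ) = ζ := by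
        have h5 := hχn 1
        rw [Nat.cast_one, pow_one] at h5
        rw [Units.val_inv_eq_inv_val, h5, inv_inv]
      rw [h4, hρC] at h3
      exact H912.TwistSec.twistVia_of_twData _ _ _ _ _ _ h3
    · -- permutation modules
      intro X _ hne _ _
      obtain ⟨x₀⟩ := hne
      have hfin : Finite (X → Λ) := inferInstance
      obtain ⟨Q⟩ := PermCover.exists_quo HΓ (MulAction.stabilizer (G × Multiplicative (ZMod N)) x₀)
      have h3 := PermCover.perm_iso HΓ Λ x₀ Q
      have h4 := ThetaFlc.flc_theta HΓ (ModBrauer.permRep Λ (G × Multiplicative (ZMod N)) X)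
      have h5 : EtCoh.IsFiniteLocallyConstant (EtLam.pushforward Q.π (FinFr.constLam Λ Q.Y)).carrier := by
        obtain ⟨e, -⟩ := h3
        exact EtpbcA.PullFLC.isFLC_of_iso e.symm h4
      have := Q.finπ
      have := Q.etπ
      rw [← hE.const Q.Y Q.π h5]
      exact (hE.iso _ _ h5 h4 h3).symm
  have hsurjf : Surjective (pullback.fst q (FinFr.extπ k' a)) := inferInstance
  have h6 := Infl.infl_iso H HΓ (pullback.fst q (FinFr.extπ k' a)) rfl (MonoidHom.fst G (Multiplicative (ZMod N)))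
    h1 σ Prod.fst_surjective
  rw [hE.iso _ _ (ThetaFlc.flc_theta H σ) (ThetaFlc.flc_theta HΓ _) h6]
  exact key

include H hn hN hk' hζ hE in
/-- The invariant vanishes on the sheaves which become constant on `V`. -/
theorem eq_zero [ConnectedSpace V] (L : EtLam.Sheaf Λ U) (A : Type) [AddCommGroup A] [Finite A]
    (e : (EtCoh.pull q).obj L.carrier ≅ EtCoh.const V A) : E L = 0 := by
  obtain ⟨M, _, _, _, σ, h⟩ := EssImage.exists_rep H L A e
  have h1 := ThetaFlc.flc_theta H σ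
  have h2 : EtCoh.IsFiniteLocallyConstant L.carrier := by
    obtain ⟨e', -⟩ := h
    exact EtpbcA.PullFLC.isFLC_of_iso e'.symm h1
  rw [hE.iso _ _ h2 h1 h]
  exact theta_eq_zero a H hn hN hk' hζ hE M σ

end core

/-- **Reduction of the lisse case to constant coefficients.** -/
theorem main {k : Type u} [Field k] [Fintype k] {U : Scheme.{u}} (a : U ⟶ Spec (CommRingCat.of k))
    [ConnectedSpace U] [IsLocallyNoetherian U] (F : EtCoh.Ab U) (hF : EtCoh.IsFiniteLocallyConstant F) :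
    ∃ N₀ : ℕ, 0 < N₀ ∧ ∃ (V : Scheme.{u}) (_ : ConnectedSpace V) (q : V ⟶ U) (_ : IsFinite q) (_ : Etale q)
      (_ : Surjective q),
      (∃ (A : Type) (_ : AddCommGroup A) (_ : Finite A), Nonempty ((EtCoh.pull q).obj F ≅ EtCoh.const V A)) ∧
      ∀ {Λ : Type} [Field Λ] [Finite Λ] {ℓ : ℕ} [Fact ℓ.Prime] [CharP Λ ℓ] {n N : ℕ} (_ : 0 < n) [NeZero N]
        (_ : ∃ b, n * N₀ ∣ ℓ ^ b * N) {k' : Type u} [Field k'] [Algebra k k'] [Module.Finite k k']
        (_ : Module.finrank k k' = N) {ζ : Λ} (_ : IsPrimitiveRoot ζ N) {E : EtLam.Sheaf Λ U → Λ}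
        (_ : IsGood a k' ζ n E) (L : EtLam.Sheaf Λ U) (A : Type) [AddCommGroup A] [Finite A]
        (_ : (EtCoh.pull q).obj L.carrier ≅ EtCoh.const V A), E L = 0 := by
  obtain ⟨V, hV, q, G, _, _, ρ, H, hc⟩ := GalCov.exists_tors F hF
  exact ⟨Nat.card G, Nat.card_pos, V, hV, q, H.fin, H.et, H.surj, hc,
    fun {Λ} _ _ {ℓ} _ _ {n N} hn _ hN {k'} _ _ _ hk' {ζ} hζ {E} hE L A _ _ e =>
      eq_zero a H hn hN hk' hζ hE L A e⟩

end Groth.Agent.Sga4h.H222.Reduce
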