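import Mathlib.RepresentationTheory.Basic
import Mathlib.LinearAlgebra.Trace
import Mathlib.LinearAlgebra.StdBasis
import Mathlib.GroupTheory.Coset.Basic
import Mathlib.GroupTheory.Coset.Card
import Mathlib.LinearAlgebra.FiniteDimensional.Lemmas

/-!
# The representation induced from a one-dimensional character, and its trace

`coind H θ` is the space of functions `f : G → Λ` with `f (h * x) = θ h * f x` for `h ∈ H`; `G` acts by
`(g • f) x = f (x * g)`.
-/

set_option autoImplicit false

namespace Groth.Agent.Sga4h.H222.Coind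

universe u

variable {Λ : Type*} [Field Λ] {G : Type*} [Group G]

/-- The induced space of a character `θ : H → Λˣ`. -/
def coind (H : Subgroup G) (θ : H →* Λˣ) : Submodule Λ (G → Λ) where
  carrier := {f | ∀ (h : H) (x : G), f (h * x) = (θ h : Λ) * f x}
  add_mem' := fun ha hb h x => by
    simp only [Pi.add_apply, ha h x, hb h x, mul_add]
  zero_mem' := fun h x => by simp
  smul_mem' := fun c f hf h x => by
    simp only [Pi.smul_apply, smul_eq_mul, hf h x]
    ring

theorem mem_coind {H : Subgroup G} {θ : H →* Λˣ} {f : G → Λ} :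
    f ∈ coind H θ ↔ ∀ (h : H) (x : G), f (h * x) = (θ h : Λ) * f x := Iff.rfl

/-- The action of `G` on `coind H θ` by right translation. -/
def coindRep (H : Subgroup G) (θ : H →* Λˣ) : Representation Λ G (coind H θ) where
  toFun g :=
    { toFun := fun f => ⟨fun x => f.1 (x * g), fun h x => by
        change f.1 (h * x * g) = _
        rw [mul_assoc]
        exact f.2 h (x * g)⟩
      map_add' := fun _ _ => rfl
      map_smul' := fun _ _ => rfl }
  map_one' := by
    ext f x
    change f.1 (x * 1) = f.1 x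
    rw [mul_one]
  map_mul' a b := by
    ext f x
    change f.1 (x * (a * b)) = f.1 (x * a * b)
    rw [mul_assoc]

@[simp] theorem coindRep_apply (H : Subgroup G) (θ : H →* Λˣ) (g : G) (f : coind H θ) (x : G) :
    (coindRep H θ g f).1 x = f.1 (x * g) := rfl

variable (H : Subgroup G) (θ : H →* Λˣ)

/-- Right cosets of `H`. -/
abbrev RC : Type _ := Quotient (QuotientGroup.rightRel H)

/-- The class of an element. -/
abbrev cl (x : G) : RC H := Quotient.mk (QuotientGroup.rightRel H) x

variable {H} in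
theorem cl_eq_iff {x y : G} : cl H x = cl H y ↔ y * x⁻¹ ∈ H := by
  rw [Quotient.eq]
  exact QuotientGroup.rightRel_apply

variable {H} in
theorem mul_inv_out_mem (x : G) : x * (cl H x).out⁻¹ ∈ H :=
  cl_eq_iff.1 (Quotient.out_eq (cl H x))

variable {H} in
theorem cl_mul (h : H) (x : G) : cl H (h * x) = cl H x := by
  rw [cl_eq_iff, mul_inv_rev, ← mul_assoc, mul_inv_cancel, one_mul]
  exact H.inv_mem h.2

/-- A function in `coind H θ` with prescribed values on the chosen representatives. -/
noncomputable def ext (φ : RC H → Λ) : coind H θ :=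
  ⟨fun x => (θ ⟨x * (cl H x).out⁻¹, mul_inv_out_mem x⟩ : Λ) * φ (cl H x), fun h x => by
    have e := cl_mul h x
    have e2 : (⟨h * x * (cl H (h * x)).out⁻¹, mul_inv_out_mem _⟩ : H) =
        h * ⟨x * (cl H x).out⁻¹, mul_inv_out_mem x⟩ := by
      apply Subtype.ext
      change (h : G) * x * (cl H (h * x)).out⁻¹ = h * (x * (cl H x).out⁻¹)
      rw [e, mul_assoc]
    change (θ ⟨h * x * (cl H (h * x)).out⁻¹, _⟩ : Λ) * φ (cl H (h * x)) = _
    rw [e2, e, map_mul, Units.val_mul, mul_assoc]⟩

/-- Evaluation on the chosen representatives is an isomorphism. -/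
noncomputable def ev : coind H θ ≃ₗ[Λ] (RC H → Λ) where
  toFun f q := f.1 q.out
  map_add' _ _ := rfl
  map_smul' _ _ := rfl
  invFun := ext H θ
  left_inv f := by
    apply Subtype.ext
    funext x
    change (θ ⟨x * (cl H x).out⁻¹, mul_inv_out_mem x⟩ : Λ) * f.1 (cl H x).out = f.1 x
    have := f.2 ⟨x * (cl H x).out⁻¹, mul_inv_out_mem x⟩ (cl H x).out
    rw [← this]
    refine congrArg f.1 ?_
    change x * (cl H x).out⁻¹ * (cl H x).out = x
    rw [mul_assoc, inv_mul_cancel, mul_one]
  right_inv φ := by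
    funext q
    change (θ ⟨q.out * (cl H q.out).out⁻¹, mul_inv_out_mem _⟩ : Λ) * φ (cl H q.out) = φ q
    have e : cl H q.out = q := Quotient.out_eq q
    have e2 : (⟨q.out * (cl H q.out).out⁻¹, mul_inv_out_mem _⟩ : H) = 1 := by
      apply Subtype.ext
      change q.out * (cl H q.out).out⁻¹ = 1
      rw [e, mul_inv_cancel]
    rw [e2, e, map_one, Units.val_one, one_mul]

@[simp] theorem ev_apply (f : coind H θ) (q : RC H) : ev H θ f q = f.1 q.out := rfl

theorem ev_symm_apply (φ : RC H → Λ) (x : G) : ((ev H θ).symm φ).1 x =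
    (θ ⟨x * (cl H x).out⁻¹, mul_inv_out_mem x⟩ : Λ) * φ (cl H x) := rfl

instance [Finite G] : Module.Finite Λ (coind H θ) :=
  Module.Finite.equiv (ev H θ).symm

open Classical in
/-- The trace of an induced representation. -/
theorem trace_coindRep [Fintype (RC H)] (g : G) :
    LinearMap.trace Λ _ (coindRep H θ g) =
      ∑ q : RC H, if h : q.out * g * q.out⁻¹ ∈ H then (θ ⟨_, h⟩ : Λ) else 0 := by
  let b := (Pi.basisFun Λ (RC H)).map (ev H θ).symm
  rw [LinearMap.trace_eq_matrix_trace Λ b, Matrix.trace]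
  refine Finset.sum_congr rfl fun q _ => ?_
  rw [Matrix.diag_apply, LinearMap.toMatrix_apply]
  have e1 : b.repr (coindRep H θ g (b q)) q = (b q).1 (q.out * g) := by
    simp [b]
  rw [e1]
  have e2 : (b q).1 (q.out * g) =
    (θ ⟨q.out * g * (cl H (q.out * g)).out⁻¹, mul_inv_out_mem _⟩ : Λ) *
      (Pi.basisFun Λ (RC H) q) (cl H (q.out * g)) := rfl
  rw [e2, Pi.basisFun_apply]
  have e3 : cl H (q.out * g) = q ↔ q.out * g * q.out⁻¹ ∈ H := by
    have e5 : cl H q.out = q := Quotient.out_eq q
    constructor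
    · intro h
      exact cl_eq_iff.1 (e5.trans h.symm)
    · intro h
      exact (cl_eq_iff.2 h).symm.trans e5
  by_cases hq : cl H (q.out * g) = q
  · have h' := e3.1 hq
    rw [dif_pos h']
    have e4 : (⟨q.out * g * (cl H (q.out * g)).out⁻¹, mul_inv_out_mem _⟩ : H) =
        ⟨q.out * g * q.out⁻¹, h'⟩ := by
      apply Subtype.ext
      change q.out * g * (cl H (q.out * g)).out⁻¹ = q.out * g * q.out⁻¹
      rw [hq]
    rw [e4, hq, Pi.single_eq_same, mul_one]
  · rw [dif_neg (fun h => hq (e3.2 h)), Pi.single_eq_of_ne hq, mul_zero]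

end Groth.Agent.Sga4h.H222.Coind
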