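import Groth.Agent.Sga4h.H925.Defs
import Mathlib.RingTheory.PowerSeries.Substitution

/-!
# Algebra of the truncated determinants `det(1 - Tφ) ∈ (Λ[[T]]/T^(n+1))ˣ`

Coefficients `cf`, reduction `redN`, scaling `scaleN` (`T ↦ cT`), extension of coefficients `extN`.
-/

set_option autoImplicit false
set_option linter.unusedVariables false
set_option linter.dupNamespace false

universe u v w

namespace Groth.Agent.Sga4h.H222.DetAlg

open Polynomial Groth.Agent.Sga4h.H925.Inv Groth.Agent.Sga4h.H925.DetInv Groth.Agent.Sga4h.H925.Defs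

section coeff

variable {Λ : Type} [Field Λ]

/-- The class of a power series. -/
noncomputable abbrev cls (n : ℕ) (f : PowerSeries Λ) : TrRing Λ n := Ideal.Quotient.mk _ f

theorem cls_eq_iff {n : ℕ} {f g : PowerSeries Λ} :
    cls n f = cls n g ↔ ∀ m ≤ n, PowerSeries.coeff m f = PowerSeries.coeff m g := by
  rw [Ideal.Quotient.eq, Ideal.mem_span_singleton, PowerSeries.X_pow_dvd_iff]
  refine forall_congr' fun m => ?_
  rw [Nat.lt_succ_iff, map_sub, sub_eq_zero]

/-- The coefficient of `T^m`. -/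
noncomputable def cf (n m : ℕ) (x : TrRing Λ n) : Λ := PowerSeries.coeff m (Quotient.out x : PowerSeries Λ)

theorem cls_out {n : ℕ} (x : TrRing Λ n) : cls n (Quotient.out x : PowerSeries Λ) = x := Quotient.out_eq x

theorem cf_cls {n m : ℕ} (h : m ≤ n) (f : PowerSeries Λ) : cf n m (cls n f) = PowerSeries.coeff m f :=
  cls_eq_iff.1 (cls_out (cls n f)) m h

theorem ext_cf {n : ℕ} {x y : TrRing Λ n} (h : ∀ m ≤ n, cf n m x = cf n m y) : x = y := by
  rw [← cls_out x, ← cls_out y, cls_eq_iff]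
  exact h

theorem exists_cls {n : ℕ} (x : TrRing Λ n) : ∃ f : PowerSeries Λ, cls n f = x := ⟨_, cls_out x⟩

/-- Scaling `T ↦ cT`. -/
noncomputable def scaleR (c : Λ) (n : ℕ) : TrRing Λ n →+* TrRing Λ n :=
  Ideal.Quotient.lift _ ((Ideal.Quotient.mk _).comp (PowerSeries.rescale c)) (by
    intro a ha
    rw [Ideal.mem_span_singleton] at ha
    obtain ⟨b, rfl⟩ := ha
    rw [RingHom.comp_apply, map_mul, map_pow, PowerSeries.rescale_X, mul_pow, ← map_pow]
    refine Ideal.Quotient.eq_zero_iff_mem.2 (Ideal.mem_span_singleton.2 ?_)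
    exact Dvd.dvd.mul_right (Dvd.intro_left _ rfl) _)

theorem scaleR_cls (c : Λ) (n : ℕ) (f : PowerSeries Λ) :
    scaleR c n (cls n f) = cls n (PowerSeries.rescale c f) := rfl

theorem cf_scaleR (c : Λ) {n m : ℕ} (h : m ≤ n) (x : TrRing Λ n) : cf n m (scaleR c n x) = c ^ m * cf n m x := by
  obtain ⟨f, rfl⟩ := exists_cls x
  rw [scaleR_cls, cf_cls h, cf_cls h, PowerSeries.coeff_rescale]

/-- Reduction. -/
noncomputable def redR (n : ℕ) : TrRing Λ (n + 1) →+* TrRing Λ n :=
  Ideal.Quotient.factor (by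
    rw [Ideal.span_singleton_le_span_singleton]
    exact pow_dvd_pow _ (Nat.le_succ _))

theorem redR_cls (n : ℕ) (f : PowerSeries Λ) : redR n (cls (n + 1) f) = cls n f := rfl

theorem cf_redR {n m : ℕ} (h : m ≤ n) (x : TrRing Λ (n + 1)) : cf n m (redR n x) = cf (n + 1) m x := by
  obtain ⟨f, rfl⟩ := exists_cls x
  rw [redR_cls, cf_cls h, cf_cls (h.trans (Nat.le_succ n))]

end coeff

section units

variable {Λ : Type} [Field Λ]

/-- The underlying element of the ring. -/
noncomputable abbrev val {n : ℕ} (x : Additive (TrRing Λ n)ˣ) : TrRing Λ n := ((x.toMul : (TrRing Λ n)ˣ) : TrRing Λ n)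

theorem val_injective {n : ℕ} {x y : Additive (TrRing Λ n)ˣ} (h : val x = val y) : x = y :=
  Additive.toMul.injective (Units.ext h)

theorem val_add {n : ℕ} (x y : Additive (TrRing Λ n)ˣ) : val (x + y) = val x * val y := rfl

theorem val_zero {n : ℕ} : val (0 : Additive (TrRing Λ n)ˣ) = 1 := rfl

/-- Scaling on units. -/
noncomputable def scaleN (c : Λ) (n : ℕ) : Additive (TrRing Λ n)ˣ →+ Additive (TrRing Λ n)ˣ :=
  (Units.map (scaleR c n).toMonoidHom).toAdditive

theorem val_scaleN (c : Λ) (n : ℕ) (x : Additive (TrRing Λ n)ˣ) : val (scaleN c n x) = scaleR c n (val x) := rfl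

/-- Reduction on units. -/
noncomputable def redN (n : ℕ) : Additive (TrRing Λ (n + 1))ˣ →+ Additive (TrRing Λ n)ˣ :=
  (Units.map (redR n).toMonoidHom).toAdditive

theorem val_redN (n : ℕ) (x : Additive (TrRing Λ (n + 1))ˣ) : val (redN n x) = redR n (val x) := rfl

theorem redN_trMap (n : ℕ) (x : Additive (PowerSeries Λ)ˣ) : redN n (trMap Λ (n + 1) x) = trMap Λ n x :=
  val_injective rfl

/-- The coefficient of `T^n`. -/
noncomputable def coefN (n : ℕ) (x : Additive (TrRing Λ n)ˣ) : Λ := cf n n (val x)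

theorem coefN_scaleN (c : Λ) (n : ℕ) (x : Additive (TrRing Λ n)ˣ) : coefN n (scaleN c n x) = c ^ n * coefN n x := by
  rw [coefN, val_scaleN, cf_scaleR c le_rfl, coefN]

/-- An element of the kernel of the reduction. -/
theorem cf_of_red {n : ℕ} {x : Additive (TrRing Λ (n + 1))ˣ} (h : redN n x = 0) {m : ℕ} (hm : m ≤ n) :
    cf (n + 1) m (val x) = if m = 0 then 1 else 0 := by
  have h1 := congrArg val h
  rw [val_redN, val_zero] at h1
  have h2 := congrArg (cf n m) h1
  rw [cf_redR hm] at h2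
  rw [h2]
  change cf n m (cls n 1) = _
  rw [cf_cls hm, PowerSeries.coeff_one]

theorem eq_zero_of_red {n : ℕ} {x : Additive (TrRing Λ (n + 1))ˣ} (h : redN n x = 0) (h' : coefN (n + 1) x = 0) :
    x = 0 := by
  apply val_injective
  refine ext_cf fun m hm => ?_
  rw [val_zero]
  have h1 : cf (n + 1) m (1 : TrRing Λ (n + 1)) = if m = 0 then 1 else 0 := by
    change cf (n + 1) m (cls (n + 1) 1) = _
    rw [cf_cls hm, PowerSeries.coeff_one]
  rw [h1]
  rcases Nat.lt_succ_iff_lt_or_eq.1 (Nat.lt_succ_of_le hm) with h2 | rfl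
  · exact cf_of_red h (Nat.lt_succ_iff.1 h2)
  · rw [if_neg (Nat.succ_ne_zero n)]
    exact h'

theorem coefN_zero (n : ℕ) : coefN (n + 1) (0 : Additive (TrRing Λ (n + 1))ˣ) = 0 := by
  rw [coefN, val_zero]
  change cf (n + 1) (n + 1) (cls (n + 1) 1) = _
  rw [cf_cls le_rfl, PowerSeries.coeff_one, if_neg (Nat.succ_ne_zero n)]

/-- Additivity of the top coefficient on the kernel of the reduction. -/
theorem coefN_add {n : ℕ} {x y : Additive (TrRing Λ (n + 1))ˣ} (hx : redN n x = 0) (hy : redN n y = 0) :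
    coefN (n + 1) (x + y) = coefN (n + 1) x + coefN (n + 1) y := by
  obtain ⟨f, hf⟩ := exists_cls (val x)
  obtain ⟨g, hg⟩ := exists_cls (val y)
  have h1 : ∀ m ≤ n, PowerSeries.coeff m f = if m = 0 then 1 else 0 := fun m hm => by
    rw [← cf_cls (hm.trans (Nat.le_succ n)), hf, cf_of_red hx hm]
  have h2 : ∀ m ≤ n, PowerSeries.coeff m g = if m = 0 then 1 else 0 := fun m hm => by
    rw [← cf_cls (hm.trans (Nat.le_succ n)), hg, cf_of_red hy hm]
  rw [coefN, coefN, coefN, val_add, ← hf, ← hg, ← map_mul, cf_cls le_rfl, cf_cls le_rfl, cf_cls le_rfl,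
    PowerSeries.coeff_mul, Finset.Nat.sum_antidiagonal_succ', Finset.Nat.sum_antidiagonal_eq_sum_range_succ_mk]
  have h3 : ∀ i ∈ Finset.range (n + 1), PowerSeries.coeff i f * PowerSeries.coeff (n - i + 1) g =
      if i = 0 then PowerSeries.coeff (n + 1) g else 0 := by
    intro i hi
    have hi' : i ≤ n := Nat.lt_succ_iff.1 (Finset.mem_range.1 hi)
    rw [h1 i hi']
    split_ifs with h0
    · subst h0
      rw [one_mul, Nat.sub_zero]
    · rw [zero_mul]
  rw [Finset.sum_congr rfl h3, Finset.sum_ite_eq' (Finset.range (n + 1)) 0, if_pos (Finset.mem_range.2 (Nat.succ_pos n)),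
    h2 0 (Nat.zero_le n), if_pos rfl, mul_one]

end units

section red

variable {Λ : Type} [Field Λ]

theorem detInvN_val (n : ℕ) (V : Type v) [AddCommGroup V] [Module Λ V] (φ : V →ₗ[Λ] V) :
    (detInvN Λ n).val V φ = trMap Λ n (Additive.ofMul (psUnit (FinFr.charRev φ))) := by
  change trMap Λ n ((detInv Λ 1).val V φ) = _
  rw [detInv_one_val]

theorem val_detInvN (n : ℕ) (V : Type v) [AddCommGroup V] [Module Λ V] (φ : V →ₗ[Λ] V) :
    val ((detInvN Λ n).val V φ) = cls n (FinFr.charRev φ : PowerSeries Λ) := by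
  rw [detInvN_val, ← val_psUnit (coeff_zero_charRev φ)]
  rfl

/-- Reduction of the invariants. -/
theorem redN_detInvN (n : ℕ) (V : Type v) [AddCommGroup V] [Module Λ V] (φ : V →ₗ[Λ] V) :
    redN n ((detInvN Λ (n + 1)).val V φ) = (detInvN Λ n).val V φ := by
  rw [detInvN_val, detInvN_val, redN_trMap]

theorem detInvN_zero (V : Type v) [AddCommGroup V] [Module Λ V] (φ : V →ₗ[Λ] V) :
    (detInvN Λ 0).val V φ = 0 := by
  apply val_injective
  rw [val_detInvN, val_zero]
  change cls 0 _ = cls 0 1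
  rw [cls_eq_iff]
  intro m hm
  obtain rfl := Nat.le_zero.1 hm
  rw [Polynomial.coeff_coe, coeff_zero_charRev, PowerSeries.coeff_one, if_pos rfl]

end red

section scale

variable {Λ : Type} [Field Λ]

/-- Non-finite modules. -/
theorem charRev_of_not_finite (V : Type v) [AddCommGroup V] [Module Λ V] (h : ¬ FiniteDimensional Λ V)
    (φ : V →ₗ[Λ] V) : FinFr.charRev φ = 1 := by
  rw [FinFr.charRev]
  refine LinearMap.det_eq_one_of_not_module_finite (R := Λ[X]) (M := TensorProduct Λ Λ[X] V)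
    (fun hf => h ?_) _
  let b : Module.Basis (Module.Free.ChooseBasisIndex Λ V) Λ V := Module.Free.chooseBasis Λ V
  have := Module.Finite.finite_basis (b.baseChange Λ[X])
  exact Module.Finite.of_basis b

theorem charRev_conj {V : Type v} {W : Type w} [AddCommGroup V] [Module Λ V] [AddCommGroup W] [Module Λ W]
    (e : V ≃ₗ[Λ] W) (φ : V →ₗ[Λ] V) (ψ : W →ₗ[Λ] W) (h : ∀ x, ψ (e x) = e (φ x)) :
    FinFr.charRev ψ = FinFr.charRev φ := by
  by_cases hV : FiniteDimensional Λ V
  · let b := Module.finBasis Λ V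
    rw [charRev_eq b, charRev_eq (b.map e)]
    congr 1
    ext i j
    rw [LinearMap.toMatrix_apply, LinearMap.toMatrix_apply, Module.Basis.map_apply, h, Module.Basis.map_repr,
      LinearEquiv.trans_apply, LinearEquiv.symm_apply_apply]
  · rw [charRev_of_not_finite V hV, charRev_of_not_finite W fun hW => hV (FiniteDimensional.of_injective
      e.toLinearMap e.injective)]

theorem coeff_charRev_smul (c : Λ) {V : Type v} [AddCommGroup V] [Module Λ V] (φ : V →ₗ[Λ] V) (m : ℕ) :
    (FinFr.charRev (c • φ)).coeff m = c ^ m * (FinFr.charRev φ).coeff m := by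
  by_cases hV : FiniteDimensional Λ V
  · have h1 : FinFr.charRev (c • φ) = (FinFr.charRev φ).comp (C c * X) := by
      let b := Module.finBasis Λ V
      rw [charRev_eq b, charRev_eq b, Matrix.charpolyRev, Matrix.charpolyRev]
      have h2 := RingHom.map_det (Polynomial.compRingHom (C c * X))
        (1 - (X : Λ[X]) • (LinearMap.toMatrix b b φ).map C)
      refine Eq.trans ?_ h2.symm
      congr 1
      ext1 i j
      rw [RingHom.mapMatrix_apply, Matrix.map_apply, Matrix.sub_apply, Matrix.sub_apply, Matrix.smul_apply,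
        Matrix.smul_apply, Matrix.map_apply, Matrix.map_apply, map_smul, Matrix.smul_apply, map_sub]
      congr 1
      · rw [Matrix.one_apply]
        split_ifs <;> simp
      · rw [smul_eq_mul, smul_eq_mul, smul_eq_mul, map_mul, map_mul, Polynomial.coe_compRingHom_apply,
          Polynomial.coe_compRingHom_apply, X_comp, C_comp]
        ring
    rw [h1]
    rw [show (C c * X : Λ[X]) = C c * X from rfl, Polynomial.comp_C_mul_X_coeff]
    ring
  · rw [charRev_of_not_finite V hV, charRev_of_not_finite V hV, coeff_one]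
    split_ifs with h
    · subst h
      rw [pow_zero, mul_one]
    · rw [mul_zero]

/-- The effect of a twist. -/
theorem detInvN_twist (n : ℕ) (c : Λ) {V W : Type v} [AddCommGroup V] [Module Λ V] [AddCommGroup W] [Module Λ W]
    (e : V ≃ₗ[Λ] W) (φ : V →ₗ[Λ] V) (ψ : W →ₗ[Λ] W) (h : ∀ x, ψ (e x) = c • e (φ x)) :
    (detInvN Λ n).val W ψ = scaleN c n ((detInvN Λ n).val V φ) := by
  have h1 : FinFr.charRev ψ = FinFr.charRev (c • φ) := charRev_conj e (c • φ) ψ fun x => by
    rw [h, LinearMap.smul_apply, map_smul]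
  apply val_injective
  rw [val_scaleN, val_detInvN, val_detInvN, scaleR_cls, cls_eq_iff, h1]
  intro m hm
  rw [PowerSeries.coeff_rescale, Polynomial.coeff_coe, Polynomial.coeff_coe, coeff_charRev_smul]

end scale

section ext

variable {Λ Λ₂ : Type} [Field Λ] [Field Λ₂] [Algebra Λ Λ₂]

variable (Λ Λ₂) in
/-- Extension of coefficients. -/
noncomputable def extR (n : ℕ) : TrRing Λ n →+* TrRing Λ₂ n :=
  Ideal.Quotient.lift _ ((Ideal.Quotient.mk _).comp (PowerSeries.map (algebraMap Λ Λ₂))) (by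
    intro a ha
    rw [Ideal.mem_span_singleton] at ha
    obtain ⟨b, rfl⟩ := ha
    rw [RingHom.comp_apply, map_mul, map_pow, PowerSeries.map_X]
    exact Ideal.Quotient.eq_zero_iff_mem.2 (Ideal.mem_span_singleton.2 (Dvd.intro _ rfl)))

theorem extR_cls (n : ℕ) (f : PowerSeries Λ) :
    extR Λ Λ₂ n (cls n f) = cls n (PowerSeries.map (algebraMap Λ Λ₂) f) := rfl

theorem cf_extR {n m : ℕ} (h : m ≤ n) (x : TrRing Λ n) : cf n m (extR Λ Λ₂ n x) = algebraMap Λ Λ₂ (cf n m x) := by
  obtain ⟨f, rfl⟩ := exists_cls x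
  rw [extR_cls, cf_cls h, cf_cls h, PowerSeries.coeff_map]

variable (Λ Λ₂) in
/-- Extension of coefficients on units. -/
noncomputable def extN (n : ℕ) : Additive (TrRing Λ n)ˣ →+ Additive (TrRing Λ₂ n)ˣ :=
  (Units.map (extR Λ Λ₂ n).toMonoidHom).toAdditive

theorem val_extN (n : ℕ) (x : Additive (TrRing Λ n)ˣ) : val (extN Λ Λ₂ n x) = extR Λ Λ₂ n (val x) := rfl

theorem extN_injective (n : ℕ) : Function.Injective (extN Λ Λ₂ n) := by
  intro x y h
  apply val_injective
  refine ext_cf fun m hm => ?_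
  have h1 := congrArg (fun z => cf n m (val z)) h
  simp only [val_extN, cf_extR hm] at h1
  exact (FaithfulSMul.algebraMap_injective Λ Λ₂) h1

theorem charRev_baseChange {V : Type v} {W : Type w} [AddCommGroup V] [Module Λ V] [AddCommGroup W] [Module Λ₂ W]
    (e : TensorProduct Λ Λ₂ V ≃ₗ[Λ₂] W) (φ : V →ₗ[Λ] V) (ψ : W →ₗ[Λ₂] W)
    (h : e.conj (φ.baseChange Λ₂) = ψ) : FinFr.charRev ψ = (FinFr.charRev φ).map (algebraMap Λ Λ₂) := by
  subst h
  by_cases hV : FiniteDimensional Λ V
  · let b := Module.finBasis Λ V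
    rw [charRev_eq b, charRev_eq ((b.baseChange Λ₂).map e), Matrix.charpolyRev, Matrix.charpolyRev,
      ← Polynomial.coe_mapRingHom, RingHom.map_det]
    congr 1
    ext1 i j
    rw [RingHom.mapMatrix_apply, Matrix.map_apply, Matrix.sub_apply, Matrix.sub_apply, Matrix.smul_apply,
      Matrix.smul_apply, Matrix.map_apply, Matrix.map_apply, map_sub]
    congr 1
    · rw [Matrix.one_apply, Matrix.one_apply]
      split_ifs <;> simp
    · have h1 : LinearMap.toMatrix ((b.baseChange Λ₂).map e) ((b.baseChange Λ₂).map e) (e.conj (φ.baseChange Λ₂)) i j =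
          algebraMap Λ Λ₂ (LinearMap.toMatrix b b φ i j) := by
        rw [LinearMap.toMatrix_apply, LinearMap.toMatrix_apply, Module.Basis.map_apply, LinearEquiv.conj_apply_apply,
          LinearEquiv.symm_apply_apply, Module.Basis.map_repr, LinearEquiv.trans_apply, LinearEquiv.symm_apply_apply,
          Module.Basis.baseChange_apply, LinearMap.baseChange_tmul, Module.Basis.baseChange_repr_tmul, Algebra.smul_def,
          mul_one]
      rw [h1]
      simp
  · have hW : ¬ FiniteDimensional Λ₂ W := fun hW => hV (by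
      have h1 : Module.Finite Λ₂ (TensorProduct Λ Λ₂ V) := Module.Finite.equiv e.symm
      let b : Module.Basis (Module.Free.ChooseBasisIndex Λ V) Λ V := Module.Free.chooseBasis Λ V
      have := Module.Finite.finite_basis (b.baseChange Λ₂)
      exact Module.Finite.of_basis b)
    rw [charRev_of_not_finite V hV, charRev_of_not_finite W hW, Polynomial.map_one]

/-- The effect of an extension of coefficients. -/
theorem detInvN_ext (n : ℕ) {V W : Type v} [AddCommGroup V] [Module Λ V] [AddCommGroup W] [Module Λ₂ W]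
    (e : TensorProduct Λ Λ₂ V ≃ₗ[Λ₂] W) (φ : V →ₗ[Λ] V) (ψ : W →ₗ[Λ₂] W)
    (h : e.conj (φ.baseChange Λ₂) = ψ) :
    (detInvN Λ₂ n).val W ψ = extN Λ Λ₂ n ((detInvN Λ n).val V φ) := by
  apply val_injective
  rw [val_extN, val_detInvN, val_detInvN, extR_cls, charRev_baseChange e φ ψ h, cls_eq_iff]
  intro m hm
  rw [Polynomial.coeff_coe, PowerSeries.coeff_map, Polynomial.coeff_coe, Polynomial.coeff_map]

end ext

end Groth.Agent.Sga4h.H222.DetAlg
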