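import Mathlib.FieldTheory.Finite.Extension
import Mathlib.FieldTheory.IsAlgClosed.Basic
import Mathlib.Algebra.Field.ULift

/-!
# Extensions of finite fields of given degree
-/

set_option autoImplicit false
universe u

namespace Groth.Agent.Sga4h.H222.ExtDeg

/-- A finite field has an extension of every degree, embedded in a given algebraically closed extension. -/
theorem exists_ext (k : Type u) [Field k] [Finite k] (K : Type u) [Field K] [Algebra k K] [IsAlgClosed K] (N : ℕ)
    [NeZero N] : ∃ (k' : Type u) (_ : Field k') (_ : Algebra k k') (_ : Module.Finite k k'),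
      Module.finrank k k' = N ∧ Nonempty (k' →ₐ[k] K) := by
  obtain ⟨p, hp⟩ := CharP.exists k
  have hp' : Fact p.Prime := ⟨CharP.char_is_prime k p⟩
  have e : ULift.{u} (FiniteField.Extension k p N) ≃ₗ[k] FiniteField.Extension k p N := ULift.moduleEquiv
  have hf : Module.Finite k (ULift.{u} (FiniteField.Extension k p N)) := Module.Finite.equiv e.symm
  refine ⟨ULift.{u} (FiniteField.Extension k p N), inferInstance, inferInstance, hf, ?_, ?_⟩
  · rw [e.finrank_eq, FiniteField.finrank_extension]
  · have : Algebra.IsAlgebraic k (ULift.{u} (FiniteField.Extension k p N)) := Algebra.IsAlgebraic.of_finite _ _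
    exact ⟨IsAlgClosed.lift⟩

end Groth.Agent.Sga4h.H222.ExtDeg
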