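import Groth.Agent.Sga4h.H912.DetAlg
import Groth.Agent.Sga4h.H222.Reduce
import Groth.Agent.Sga4h.H222.ExtDeg
import Groth.Agent.Sga4h.H912.CoeffRoot
import Groth.Agent.Sga4h.H912.ExtConst

/-!
# The lisse case of the determinant formula by induction on the order of truncation

`IsFam a K ℓ N D`: a family `D Λ : EtLam.Sheaf Λ U → (Λ[[T]]/T^(N+1))ˣ`, `Λ` a field, which is additive,
compatible with twists and extension of coefficients and vanishes on the direct images of the constant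
sheaf under finite étale morphisms for finite `Λ` of characteristic `ℓ`.  `main`: it vanishes on every
finite locally constant sheaf.
-/

set_option autoImplicit false
set_option linter.unusedVariables false
universe u w w'
open CategoryTheory CategoryTheory.Limits AlgebraicGeometry Opposite

namespace Groth.Agent.Sga4h.H222.DetInduct

open Groth.Agent.Sga4h.H925.Defs Groth.Agent.Sga4h.H912.DetAlg Groth.Agent.Sga4h.H222.LamLC
  Groth.Agent.Sga4h.H912.CoeffSheaf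

section alg

theorem uHom_uHom {Λ₁ Λ₂ Λ₃ : Type} [Field Λ₁] [Field Λ₂] [Field Λ₃] {N₁ N₂ N₃ : ℕ} (h₁ : N₂ ≤ N₁) (h₂ : N₃ ≤ N₂)
    (ρ : PowerSeries Λ₁ →+* PowerSeries Λ₂) (hρ : (PowerSeries.X : PowerSeries Λ₂) ∣ ρ PowerSeries.X)
    (σ : PowerSeries Λ₂ →+* PowerSeries Λ₃) (hσ : (PowerSeries.X : PowerSeries Λ₃) ∣ σ PowerSeries.X)
    (τ : PowerSeries Λ₁ →+* PowerSeries Λ₃) (hτ : (PowerSeries.X : PowerSeries Λ₃) ∣ τ PowerSeries.X)
    (h : σ.comp ρ = τ) (x : Additive (TrRing Λ₁ N₁)ˣ) :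
    uHom N₂ N₃ h₂ σ hσ (uHom N₁ N₂ h₁ ρ hρ x) = uHom N₁ N₃ (h₂.trans h₁) τ hτ x := by
  subst h
  apply Additive.toMul.injective
  apply Units.ext
  obtain ⟨f, hf⟩ := Ideal.Quotient.mk_surjective ((Additive.toMul x : (TrRing Λ₁ N₁)ˣ) : TrRing Λ₁ N₁)
  change trHom N₂ N₃ h₂ σ hσ (trHom N₁ N₂ h₁ ρ hρ ((Additive.toMul x : (TrRing Λ₁ N₁)ˣ) : TrRing Λ₁ N₁)) =
    trHom N₁ N₃ (h₂.trans h₁) (σ.comp ρ) hτ ((Additive.toMul x : (TrRing Λ₁ N₁)ˣ) : TrRing Λ₁ N₁)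
  rw [← hf]
  rfl

theorem rd_rd {Λ : Type} [Field Λ] {N₁ N₂ N₃ : ℕ} (h₁ : N₂ ≤ N₁) (h₂ : N₃ ≤ N₂) (x : Additive (TrRing Λ N₁)ˣ) :
    rd Λ N₂ N₃ h₂ (rd Λ N₁ N₂ h₁ x) = rd Λ N₁ N₃ (h₂.trans h₁) x :=
  uHom_uHom _ _ _ _ _ _ _ _ (RingHom.id_comp _) x

theorem rd_rs {Λ : Type} [Field Λ] {N M : ℕ} (h : M ≤ N) (c : Λ) (x : Additive (TrRing Λ N)ˣ) :
    rd Λ N M h (rs N c x) = rs M c (rd Λ N M h x) :=
  (uHom_uHom le_rfl h _ _ _ _ _ (X_dvd_rescale c) (RingHom.id_comp _) x).trans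
    (uHom_uHom h le_rfl _ _ _ _ _ (X_dvd_rescale c) (RingHom.comp_id _) x).symm

theorem rd_ex {Λ Λ₂ : Type} [Field Λ] [Field Λ₂] [Algebra Λ Λ₂] {N M : ℕ} (h : M ≤ N) (x : Additive (TrRing Λ N)ˣ) :
    rd Λ₂ N M h (ex Λ Λ₂ N x) = ex Λ Λ₂ M (rd Λ N M h x) :=
  (uHom_uHom le_rfl h _ _ _ _ _ X_dvd_map (RingHom.id_comp _) x).trans
    (uHom_uHom h le_rfl _ _ _ _ _ X_dvd_map (RingHom.comp_id _) x).symm

theorem rd_self {Λ : Type} [Field Λ] {N : ℕ} (x : Additive (TrRing Λ N)ˣ) : rd Λ N N le_rfl x = x := by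
  apply Additive.toMul.injective
  apply Units.ext
  obtain ⟨f, hf⟩ := Ideal.Quotient.mk_surjective ((Additive.toMul x : (TrRing Λ N)ˣ) : TrRing Λ N)
  change trHom N N le_rfl (RingHom.id _) dvd_rfl ((Additive.toMul x : (TrRing Λ N)ˣ) : TrRing Λ N) =
    ((Additive.toMul x : (TrRing Λ N)ˣ) : TrRing Λ N)
  rw [← hf]
  rfl

end alg

/-- Families of determinant-like invariants. -/
structure IsFam {k : Type u} [Field k] [Fintype k] {U : Scheme.{u}} (a : U ⟶ Spec (CommRingCat.of k))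
    (K : Type u) [Field K] [Algebra k K] (ℓ N : ℕ)
    (D : ∀ (Λ : Type) [Field Λ], EtLam.Sheaf Λ U → Additive (TrRing Λ N)ˣ) : Prop where
  zero : ∀ (Λ : Type) [Field Λ] (L : EtLam.Sheaf Λ U), EtCoh.IsFiniteLocallyConstant L.carrier →
    rd Λ N 0 (Nat.zero_le N) (D Λ L) = 0
  iso : ∀ (Λ : Type) [Field Λ] (L L' : EtLam.Sheaf Λ U), EtCoh.IsFiniteLocallyConstant L.carrier →
    EtCoh.IsFiniteLocallyConstant L'.carrier → IsoLam L L' → D Λ L = D Λ L'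
  add : ∀ (Λ : Type) [Field Λ] [Finite Λ], ringChar Λ = ℓ → ∀ (L₁ L₂ L₃ : EtLam.Sheaf Λ U)
    (f : L₁.carrier ⟶ L₂.carrier) (g : L₂.carrier ⟶ L₃.carrier) (h : f ≫ g = 0),
    (∀ r, L₁.act r ≫ f = f ≫ L₂.act r) → (∀ r, L₂.act r ≫ g = g ≫ L₃.act r) →
    (ShortComplex.mk f g h).ShortExact → EtCoh.IsFiniteLocallyConstant L₁.carrier →
    EtCoh.IsFiniteLocallyConstant L₂.carrier → EtCoh.IsFiniteLocallyConstant L₃.carrier →
    D Λ L₂ = D Λ L₁ + D Λ L₃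
  const : ∀ (Λ : Type) [Field Λ] [Finite Λ], ringChar Λ = ℓ → ∀ (Y : Scheme.{u}) (π : Y ⟶ U) [IsFinite π]
    [Etale π], D Λ (EtLam.pushforward π (FinFr.constLam Λ Y)) = 0
  tw : ∀ (Λ : Type) [Field Λ] {k' : Type u} [Field k'] [Algebra k k'] [Algebra.IsAlgebraic k k']
    (ι : k' →ₐ[k] K) (ζ ζ' : Λ), ζ' * ζ = 1 → ∀ (L L' : EtLam.Sheaf Λ U),
    EtCoh.IsFiniteLocallyConstant L.carrier → EtCoh.IsFiniteLocallyConstant L'.carrier →
    H912.TwistGal.GalTwist a (FinFr.arith k k') ζ L L' → D Λ L' = rs N ζ' (D Λ L)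
  ext : ∀ (Λ Λ₂ : Type) [Field Λ] [Field Λ₂] [Algebra Λ Λ₂] (L : EtLam.Sheaf Λ U) (L₂ : EtLam.Sheaf Λ₂ U)
    (s : L.carrier ⟶ L₂.carrier), EtCoh.IsFiniteLocallyConstant L.carrier → IsExtSh L L₂ s →
    D Λ₂ L₂ = ex Λ Λ₂ N (D Λ L)

section

variable {k : Type u} [Field k] [Fintype k] {U : Scheme.{u}} {a : U ⟶ Spec (CommRingCat.of k)}
    {K : Type u} [Field K] [Algebra k K] [IsAlgClosed K] {ℓ N : ℕ}
    {D : ∀ (Λ : Type) [Field Λ], EtLam.Sheaf Λ U → Additive (TrRing Λ N)ˣ} (hD : IsFam a K ℓ N D)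

include hD in
theorem rd_eq_zero [ConnectedSpace U] [IsLocallyNoetherian U] (n : ℕ) (hn : n ≤ N) :
    ∀ (Λ : Type) [Field Λ] [Finite Λ], ringChar Λ = ℓ → ∀ L : EtLam.Sheaf Λ U,
      EtCoh.IsFiniteLocallyConstant L.carrier → rd Λ N n hn (D Λ L) = 0 := by
  induction n with
  | zero => exact fun Λ _ _ _ L hL => hD.zero Λ L hL
  | succ n ih =>
    intro Λ _ _ hΛ L hL
    have ih' := ih (Nat.le_of_succ_le hn)
    obtain ⟨N₀, hN₀, V, hV, q, -, -, -, ⟨A, _, _, ⟨e⟩⟩, hmain⟩ := Reduce.main a L.carrier hL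
    obtain ⟨M, _, b, Λ₂, _, _, _, _, ζ, hζ, hM⟩ := H912.CoeffRoot.exists_coeff Λ ((n + 1) * N₀)
      (Nat.mul_pos (Nat.succ_pos n) hN₀)
    obtain ⟨L₂, s, hs⟩ := exists_isExtSh (Λ₂ := Λ₂) L
    obtain ⟨A₂, _, _, ⟨e₂⟩⟩ := H912.ExtConst.const_of_ext hs q A e
    obtain ⟨k', _, _, _, hk', ⟨ι⟩⟩ := ExtDeg.exists_ext k K M
    have hchar : ringChar Λ₂ = ℓ := by
      rw [← hΛ]
      have h1 : CharP Λ (ringChar Λ) := ringChar.charP Λ
      have h2 : CharP Λ₂ (ringChar Λ) := charP_of_injective_algebraMap (FaithfulSMul.algebraMap_injective Λ Λ₂) _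
      exact ringChar.eq_iff.2 h2
    have hcharP : CharP Λ₂ ℓ := by
      rw [← hchar]
      exact ringChar.charP Λ₂
    have hprime : Fact ℓ.Prime := ⟨CharP.char_is_prime Λ₂ ℓ⟩
    have hζ0 : ζ ≠ 0 := hζ.ne_zero (NeZero.ne M)
    have hred : ∀ L' : EtLam.Sheaf Λ₂ U, EtCoh.IsFiniteLocallyConstant L'.carrier →
        rd Λ₂ (n + 1) n (Nat.le_succ n) (rd Λ₂ N (n + 1) hn (D Λ₂ L')) = 0 := fun L' h' => by
      rw [rd_rd, ih' Λ₂ hchar L' h']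
    have hgood : Reduce.IsGood a k' ζ (n + 1) (fun L' : EtLam.Sheaf Λ₂ U =>
        cu (n + 1) (rd Λ₂ N (n + 1) hn (D Λ₂ L'))) :=
      { iso := fun L₁ L₁' h1 h1' h => congrArg (fun x => cu (n + 1) (rd Λ₂ N (n + 1) hn x))
          (hD.iso Λ₂ L₁ L₁' h1 h1' h)
        add := fun L₁ L₂ L₃ f g h hf hg hS h1 h2 h3 => by
          have := hD.add Λ₂ hchar L₁ L₂ L₃ f g h hf hg hS h1 h2 h3
          simp only [this, map_add]
          exact cu_add n (hred L₁ h1) (hred L₃ h3)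
        const := fun Y π _ _ _ => by
          have := hD.const Λ₂ hchar Y π
          simp only [this, map_zero]
          exact cu_zero _ (Nat.succ_pos n)
        tw := fun L₁ L₁' h1 h1' h => by
          have := hD.tw Λ₂ ι ζ ζ⁻¹ (inv_mul_cancel₀ hζ0) L₁ L₁' h1 h1' h
          simp only [this, rd_rs]
          exact cu_rs _ _ _ }
    have h1 := hmain (Λ := Λ₂) (ℓ := ℓ) (Nat.succ_pos n) ⟨b, by rw [← hΛ]; exact hM⟩ hk' hζ hgood L₂ A₂ e₂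
    have h2 : rd Λ₂ N (n + 1) hn (D Λ₂ L₂) = 0 :=
      eq_zero_of_cu n (hred L₂ (H912.ExtConst.flc_of_ext hs hL)) h1
    rw [hD.ext Λ Λ₂ L L₂ s hL hs, rd_ex] at h2
    exact ex_injective (Λ := Λ) (Λ₂ := Λ₂) (n + 1) (h2.trans (map_zero _).symm)

include hD in
/-- **The lisse case.** -/
theorem main [ConnectedSpace U] [IsLocallyNoetherian U] (Λ : Type) [Field Λ] [Finite Λ] (hΛ : ringChar Λ = ℓ)
    (L : EtLam.Sheaf Λ U) (hL : EtCoh.IsFiniteLocallyConstant L.carrier) : D Λ L = 0 := by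
  rw [← rd_self (D Λ L)]
  exact rd_eq_zero hD N le_rfl Λ hΛ L hL

end

end Groth.Agent.Sga4h.H222.DetInduct
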