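import Groth.Agent.Sga4h.H222.TrLin
import Mathlib.RepresentationTheory.Basic
import Mathlib.Algebra.Group.Shrink

/-!
# Additive invariants of representations of a finite group over a finite field are linear in the trace

`RInv Λ G`: `Λ`-valued functions on finite-dimensional representations; `IsAdd`: additivity in short exact
sequences; `exists_repr`: `D ρ = ∑ g, e g * trace (ρ g)`.
-/

set_option autoImplicit false

universe u v

namespace Groth.Agent.Sga4h.H222.RepInv

open TrLin

/-- `Λ`-valued functions on finite-dimensional representations of `G` over `Λ`. -/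
abbrev RInv (Λ : Type) (G : Type u) [Field Λ] [Group G] : Type (max u 1) :=
  ∀ (M : Type) [AddCommGroup M] [Module Λ M] [Module.Finite Λ M], Representation Λ G M → Λ

variable {Λ : Type} [Field Λ] {G : Type u} [Group G]

/-- Additivity in short exact sequences of representations. -/
def IsAdd (D : RInv Λ G) : Prop :=
  ∀ (M₁ M₂ M₃ : Type) [AddCommGroup M₁] [AddCommGroup M₂] [AddCommGroup M₃] [Module Λ M₁] [Module Λ M₂]
    [Module Λ M₃] [Module.Finite Λ M₁] [Module.Finite Λ M₂] [Module.Finite Λ M₃]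
    (ρ₁ : Representation Λ G M₁) (ρ₂ : Representation Λ G M₂) (ρ₃ : Representation Λ G M₃)
    (i : M₁ →ₗ[Λ] M₂) (p : M₂ →ₗ[Λ] M₃), (∀ g v, i (ρ₁ g v) = ρ₂ g (i v)) →
    (∀ g v, p (ρ₂ g v) = ρ₃ g (p v)) → Function.Injective i → Function.Exact i p →
    Function.Surjective p → D M₂ ρ₂ = D M₁ ρ₁ + D M₃ ρ₃

theorem IsAdd.punit {D : RInv Λ G} (h : IsAdd D) (ρ : Representation Λ G PUnit) : D PUnit ρ = 0 := by
  have := h PUnit PUnit PUnit ρ ρ ρ LinearMap.id LinearMap.id (fun _ _ => rfl) (fun _ _ => rfl)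
    Function.injective_id (fun x => ⟨fun _ => ⟨x, rfl⟩, fun _ => Subsingleton.elim _ _⟩)
    Function.surjective_id
  simpa using this

/-- Additive invariants are invariant under isomorphism. -/
theorem IsAdd.iso {D : RInv Λ G} (h : IsAdd D) {M N : Type} [AddCommGroup M] [Module Λ M]
    [Module.Finite Λ M] [AddCommGroup N] [Module Λ N] [Module.Finite Λ N] (ρ : Representation Λ G M)
    (σ : Representation Λ G N) (e : M ≃ₗ[Λ] N) (he : ∀ g v, e (ρ g v) = σ g (e v)) : D M ρ = D N σ := by
  have := h PUnit M N 1 ρ σ 0 e.toLinearMap (fun g v => by simp) he (fun x y _ => Subsingleton.elim x y)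
    (fun x => ⟨fun hx => ⟨0, by
      have hx' : e x = 0 := hx
      rw [map_zero]
      exact (e.map_eq_zero_iff.1 hx').symm⟩, by
      rintro ⟨y, rfl⟩
      simp⟩) e.surjective
  rw [this, h.punit, zero_add]

section type0

variable {G : Type} [Group G]

/-- The `Λ[G]`-module structure of a representation. -/
noncomputable abbrev toMod {M : Type} [AddCommGroup M] [Module Λ M] (ρ : Representation Λ G M) :
    Module (MonoidAlgebra Λ G) M :=
  Module.compHom M (ρ.asAlgebraHom).toRingHom

theorem toMod_smul {M : Type} [AddCommGroup M] [Module Λ M] (ρ : Representation Λ G M)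
    (a : MonoidAlgebra Λ G) (v : M) :
    letI := toMod ρ; a • v = ρ.asAlgebraHom a v := rfl

theorem toMod_tower {M : Type} [AddCommGroup M] [Module Λ M] (ρ : Representation Λ G M) :
    letI := toMod ρ; IsScalarTower Λ (MonoidAlgebra Λ G) M := by
  let := toMod ρ
  refine ⟨fun r a v => ?_⟩
  rw [toMod_smul, toMod_smul, map_smul, LinearMap.smul_apply]

/-- An invariant of representations as an invariant of modules. -/
noncomputable def toInv (D : RInv Λ G) : Inv Λ (MonoidAlgebra Λ G) :=
  fun M _ _ _ _ _ => D M (Representation.ofModule' M)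

theorem toInv_isAdditive {D : RInv Λ G} (h : IsAdd D) : IsAdditive (toInv D) := by
  intro M₁ M₂ M₃ _ _ _ _ _ _ _ _ _ _ _ _ _ _ _ i p hi hex hp
  refine h M₁ M₂ M₃ _ _ _ (i.restrictScalars Λ) (p.restrictScalars Λ) (fun g v => ?_) (fun g v => ?_)
    hi hex hp
  · exact map_smul i (MonoidAlgebra.of Λ G g) v
  · exact map_smul p (MonoidAlgebra.of Λ G g) v

theorem toInv_toMod (D : RInv Λ G) {M : Type} [AddCommGroup M] [Module Λ M] [Module.Finite Λ M]
    (ρ : Representation Λ G M) :
    letI := toMod ρ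
    haveI := toMod_tower ρ
    toInv D M = D M ρ := by
  let := toMod ρ
  have := toMod_tower ρ
  have e : (Representation.ofModule' M : Representation Λ G M) = ρ := by
    refine MonoidHom.ext fun g => LinearMap.ext fun v => ?_
    have : (Representation.ofModule' M : Representation Λ G M) g v = MonoidAlgebra.of Λ G g • v := rfl
    rw [this, toMod_smul, Representation.asAlgebraHom_of]
  change D M (Representation.ofModule' M) = D M ρ
  rw [e]

theorem exists_coeff [Fintype G] (a : MonoidAlgebra Λ G) : ∃ e : G → Λ, ∀ (M : Type) [AddCommGroup M]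
    [Module Λ M] (ρ : Representation Λ G M), ρ.asAlgebraHom a = ∑ g : G, e g • ρ g := by
  classical
  induction a using MonoidAlgebra.induction_on with
  | of g =>
    refine ⟨Pi.single g 1, fun M _ _ ρ => ?_⟩
    rw [Representation.asAlgebraHom_of, Finset.sum_eq_single g]
    · rw [Pi.single_eq_same, one_smul]
    · intro b _ hb
      rw [Pi.single_eq_of_ne hb, zero_smul]
    · exact fun h => absurd (Finset.mem_univ g) h
  | add a b ha hb =>
    obtain ⟨e, he⟩ := ha
    obtain ⟨f, hf⟩ := hb
    refine ⟨e + f, fun M _ _ ρ => ?_⟩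
    rw [map_add, he, hf, ← Finset.sum_add_distrib]
    exact Finset.sum_congr rfl fun g _ => by rw [Pi.add_apply, add_smul]
  | smul r a ha =>
    obtain ⟨e, he⟩ := ha
    refine ⟨r • e, fun M _ _ ρ => ?_⟩
    rw [map_smul, he, Finset.smul_sum]
    exact Finset.sum_congr rfl fun g _ => by rw [Pi.smul_apply, smul_assoc]

theorem exists_repr0 [Finite Λ] [Finite G] [Fintype G] {D : RInv Λ G} (h : IsAdd D) :
    ∃ e : G → Λ, ∀ (M : Type) [AddCommGroup M] [Module Λ M] [Module.Finite Λ M]
      (ρ : Representation Λ G M), D M ρ = ∑ g : G, e g * LinearMap.trace Λ M (ρ g) := by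
  obtain ⟨a, ha⟩ := exists_trace_repr (toInv_isAdditive h)
  obtain ⟨e, he⟩ := exists_coeff a
  refine ⟨e, fun M _ _ _ ρ => ?_⟩
  let := toMod ρ
  have := toMod_tower ρ
  have e1 : Algebra.lsmul Λ Λ M a = ρ.asAlgebraHom a := LinearMap.ext fun v => toMod_smul ρ a v
  rw [← toInv_toMod D ρ, ha M, tr, e1, he, map_sum]
  exact Finset.sum_congr rfl fun g _ => by rw [map_smul, smul_eq_mul]

end type0

/-- Additive invariants are linear in the trace function. -/
theorem exists_repr [Finite Λ] [Fintype G] {D : RInv Λ G} (h : IsAdd D) :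
    ∃ e : G → Λ, ∀ (M : Type) [AddCommGroup M] [Module Λ M] [Module.Finite Λ M]
      (ρ : Representation Λ G M), D M ρ = ∑ g : G, e g * LinearMap.trace Λ M (ρ g) := by
  let ε : Shrink.{0} G ≃* G := Shrink.mulEquiv
  have : Fintype (Shrink.{0} G) := Fintype.ofEquiv G ε.symm.toEquiv
  let D' : RInv Λ (Shrink.{0} G) := fun M _ _ _ ρ => D M (ρ.comp ε.symm.toMonoidHom)
  have hD' : IsAdd D' := by
    intro M₁ M₂ M₃ _ _ _ _ _ _ _ _ _ ρ₁ ρ₂ ρ₃ i p h1 h2 hi hex hp
    exact h M₁ M₂ M₃ _ _ _ i p (fun g v => h1 _ v) (fun g v => h2 _ v) hi hex hp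
  obtain ⟨e, he⟩ := exists_repr0 hD'
  refine ⟨fun g => e (ε.symm g), fun M _ _ _ ρ => ?_⟩
  have h1 : D' M (ρ.comp ε.toMonoidHom) = D M ρ := by
    change D M ((ρ.comp ε.toMonoidHom).comp ε.symm.toMonoidHom) = D M ρ
    congr 1
    refine MonoidHom.ext fun g => ?_
    change ρ (ε (ε.symm g)) = ρ g
    rw [MulEquiv.apply_symm_apply]
  rw [← h1, he]
  refine Fintype.sum_equiv ε.toEquiv _ _ fun x => ?_
  change e x * LinearMap.trace Λ M (ρ (ε x)) = e (ε.symm (ε x)) * LinearMap.trace Λ M (ρ (ε x))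
  rw [MulEquiv.symm_apply_apply]

end Groth.Agent.Sga4h.H222.RepInv
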