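import Groth.Agent.Sga5.H851.ThetaLoc
import Groth.Prelude.Def_EtLam
import Mathlib.RepresentationTheory.Basic

/-!
# The `Λ`-sheaf attached to a representation of the group of a Galois covering

`q : X' ⟶ X`, `G` acting on `X'` over `X`, `σ` a representation of `G` on a `Λ`-module `M`:
`thetaLam q ρ hρ σ : EtLam.Sheaf Λ X`, with sections over `V` the equivariant locally constant functions
`V ×_X X' → M`.  Functoriality (`mapLam`), exactness (`shortExact_mapLam`).
-/

set_option autoImplicit false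
set_option linter.unusedVariables false
universe u w
open CategoryTheory CategoryTheory.Limits AlgebraicGeometry Opposite

namespace Groth.Agent.Sga4h.H222.ThetaLam

open Groth.Agent.Sga4B.ConstLC Groth.Agent.Sga5.H851.FunSheaf Groth.Agent.Sga5.H851
  Groth.Agent.Sga5.H851.ThetaLoc

section alg

variable {Λ : Type} [CommRing Λ] {G : Type w} [Group G]

/-- A `Λ`-linear map on `ULift`. -/
def ulMap {M N : Type} [AddCommGroup M] [Module Λ M] [AddCommGroup N] [Module Λ N] (f : M →ₗ[Λ] N) :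
    ULift.{u + 1} M →+ ULift.{u + 1} N where
  toFun x := ⟨f x.down⟩
  map_zero' := congrArg ULift.up (map_zero f)
  map_add' x y := congrArg ULift.up (map_add f x.down y.down)

variable {M : Type} [AddCommGroup M] [Module Λ M]

/-- The action on `ULift`. -/
def ulAct (σ : Representation Λ G M) : G →* AddMonoid.End (ULift.{u + 1} M) where
  toFun g := ulMap (σ g)
  map_one' := by
    refine AddMonoidHom.ext fun x => ?_
    change ULift.up (σ 1 x.down) = x
    rw [map_one]
    rfl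
  map_mul' g h := by
    refine AddMonoidHom.ext fun x => ?_
    change ULift.up (σ (g * h) x.down) = ULift.up (σ g (σ h x.down))
    rw [map_mul]
    rfl

theorem ulAct_apply (σ : Representation Λ G M) (g : G) (x : ULift.{u + 1} M) :
    ulAct σ g x = ⟨σ g x.down⟩ := rfl

end alg

section defs

variable {Λ : Type} [CommRing Λ] {X X' : Scheme.{u}} (q : X' ⟶ X) {G : Type w} [Group G] (ρ : G →* Aut X')
  (hρ : ∀ g : G, (ρ g).hom ≫ q = q) {M : Type} [AddCommGroup M] [Module Λ M] (σ : Representation Λ G M)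

/-- The underlying abelian sheaf. -/
noncomputable abbrev Th : EtCoh.Ab X := Theta.Theta q ρ hρ ∅ (ulAct σ)

/-- Sections as functions. -/
noncomputable abbrev val {V : X.Etale} (s : (Th q ρ hρ σ).obj.obj (op V)) (z : P q V) : M :=
  ((Theta.toSec q ρ hρ ∅ (ulAct σ) s).1 z).down

theorem val_ext {V : X.Etale} {s t : (Th q ρ hρ σ).obj.obj (op V)}
    (h : ∀ z, val q ρ hρ σ s z = val q ρ hρ σ t z) : s = t :=
  Theta.sec_ext q ρ hρ ∅ (ulAct σ) fun z => ULift.down_injective (h z)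

theorem hom_ext {F : EtCoh.Ab X} {φ ψ : F ⟶ Th q ρ hρ σ}
    (h : ∀ (V : X.Etale) (s : F.obj.obj (op V)) (z : P q V),
      val q ρ hρ σ (φ.hom.app (op V) s) z = val q ρ hρ σ (ψ.hom.app (op V) s) z) : φ = ψ :=
  Theta.hom_ext' q ρ hρ ∅ (ulAct σ) fun V s z => ULift.down_injective (h V s z)

/-- The map of sheaves attached to an equivariant linear map. -/
noncomputable def mapTh {N : Type} [AddCommGroup N] [Module Λ N] (τ : Representation Λ G N) (f : M →ₗ[Λ] N)
    (hf : ∀ g v, f (σ g v) = τ g (f v)) : Th q ρ hρ σ ⟶ Th q ρ hρ τ :=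
  Theta.map q ρ hρ ∅ (ulAct σ) (ulAct τ) (ulMap f) fun g m => congrArg ULift.up (hf g m.down)

theorem val_mapTh {N : Type} [AddCommGroup N] [Module Λ N] (τ : Representation Λ G N) (f : M →ₗ[Λ] N)
    (hf : ∀ g v, f (σ g v) = τ g (f v)) {V : X.Etale} (s : (Th q ρ hρ σ).obj.obj (op V)) (z : P q V) :
    val q ρ hρ τ ((mapTh q ρ hρ σ τ f hf).hom.app (op V) s) z = f (val q ρ hρ σ s z) := rfl

/-- The `Λ`-sheaf attached to a representation. -/
noncomputable def thetaLam : EtLam.Sheaf Λ X where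
  carrier := Th q ρ hρ σ
  act :=
    { toFun := fun r => mapTh q ρ hρ σ σ (r • LinearMap.id) fun g v => ((σ g).map_smul r v).symm
      map_one' := hom_ext q ρ hρ σ fun V s z => one_smul Λ _
      map_mul' := fun r r' => hom_ext q ρ hρ σ fun V s z => mul_smul r r' _
      map_zero' := hom_ext q ρ hρ σ fun V s z => zero_smul Λ _
      map_add' := fun r r' => hom_ext q ρ hρ σ fun V s z => add_smul r r' _ }

theorem val_act (r : Λ) {V : X.Etale} (s : (Th q ρ hρ σ).obj.obj (op V)) (z : P q V) :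
    val q ρ hρ σ (((thetaLam q ρ hρ σ).act r).hom.app (op V) s) z = r • val q ρ hρ σ s z := rfl

theorem val_map {V V' : X.Etale} (β : V' ⟶ V) (s : (Th q ρ hρ σ).obj.obj (op V)) (z : P q V') :
    val q ρ hρ σ ((Th q ρ hρ σ).obj.map β.op s) z = val q ρ hρ σ s (pmap q β z) := rfl

theorem val_γ {V : X.Etale} (s : (Th q ρ hρ σ).obj.obj (op V)) (g : G) (z : P q V) :
    val q ρ hρ σ s (γ q ρ hρ V g z) = σ g (val q ρ hρ σ s z) :=
  congrArg ULift.down ((Theta.toSec q ρ hρ ∅ (ulAct σ) s).2.2 g z)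

/-- Sections from functions. -/
noncomputable def mk {V : X.Etale} (f : P q V → M) (hf : IsLocallyConstant f)
    (h : ∀ (g : G) (z : P q V), f (γ q ρ hρ V g z) = σ g (f z)) : (Th q ρ hρ σ).obj.obj (op V) :=
  (⟨⟨fun z => ⟨f z⟩, hf.comp ULift.up⟩, fun z hz => absurd hz (Set.notMem_empty _),
    fun g z => congrArg ULift.up (h g z)⟩ : Theta.Sec q ρ hρ ∅ (ulAct σ) V)

theorem val_mk {V : X.Etale} (f : P q V → M) (hf : IsLocallyConstant f)
    (h : ∀ (g : G) (z : P q V), f (γ q ρ hρ V g z) = σ g (f z)) (z : P q V) :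
    val q ρ hρ σ (mk q ρ hρ σ f hf h) z = f z := rfl

theorem isLocallyConstant_val {V : X.Etale} (s : (Th q ρ hρ σ).obj.obj (op V)) :
    IsLocallyConstant (val q ρ hρ σ s) :=
  (Theta.toSec q ρ hρ ∅ (ulAct σ) s).1.isLocallyConstant.comp ULift.down

theorem val_add {V : X.Etale} (s t : (Th q ρ hρ σ).obj.obj (op V)) (z : P q V) :
    val q ρ hρ σ (s + t) z = val q ρ hρ σ s z + val q ρ hρ σ t z := rfl

theorem val_zero {V : X.Etale} (z : P q V) :
    val q ρ hρ σ (0 : (Th q ρ hρ σ).obj.obj (op V)) z = 0 := rfl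

theorem mapTh_act {N : Type} [AddCommGroup N] [Module Λ N] (τ : Representation Λ G N) (f : M →ₗ[Λ] N)
    (hf : ∀ g v, f (σ g v) = τ g (f v)) (r : Λ) :
    (thetaLam q ρ hρ σ).act r ≫ mapTh q ρ hρ σ τ f hf = mapTh q ρ hρ σ τ f hf ≫ (thetaLam q ρ hρ τ).act r :=
  hom_ext q ρ hρ τ fun V s z => f.map_smul r _

end defs

section exact

variable {Λ : Type} [CommRing Λ] {X X' : Scheme.{u}} {q : X' ⟶ X} {G : Type w} [Group G] {ρ : G →* Aut X'}
  {hρ : ∀ g : G, (ρ g).hom ≫ q = q} {M₁ M₂ M₃ : Type} [AddCommGroup M₁] [Module Λ M₁] [AddCommGroup M₂]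
  [Module Λ M₂] [AddCommGroup M₃] [Module Λ M₃] {σ₁ : Representation Λ G M₁} {σ₂ : Representation Λ G M₂}
  {σ₃ : Representation Λ G M₃}

/-- Exactness. -/
theorem shortExact_mapTh (H : IsRam q ρ hρ ∅) (i : M₁ →ₗ[Λ] M₂) (p : M₂ →ₗ[Λ] M₃)
    (hi : ∀ g v, i (σ₁ g v) = σ₂ g (i v)) (hp : ∀ g v, p (σ₂ g v) = σ₃ g (p v))
    (hinj : Function.Injective i) (hex : Function.Exact i p) (hsurj : Function.Surjective p) :
    ∃ h : mapTh q ρ hρ σ₁ σ₂ i hi ≫ mapTh q ρ hρ σ₂ σ₃ p hp = 0, (ShortComplex.mk _ _ h).ShortExact := by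
  have h1 : Function.Injective (ulMap.{u} i) := fun x y h =>
    ULift.down_injective (hinj (congrArg ULift.down h))
  have h2 : Function.Surjective (ulMap.{u} p) := fun x => by
    obtain ⟨y, hy⟩ := hsurj x.down
    exact ⟨⟨y⟩, congrArg ULift.up hy⟩
  have h3 : Function.Exact (ulMap.{u} i) (ulMap.{u} p) := by
    intro x
    constructor
    · intro h
      obtain ⟨y, hy⟩ := (hex x.down).1 (congrArg ULift.down h)
      exact ⟨⟨y⟩, congrArg ULift.up hy⟩
    · rintro ⟨y, rfl⟩
      exact congrArg ULift.up ((hex _).2 ⟨y.down, rfl⟩)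
  exact ⟨_, ThetaLoc.shortExact_map H (a := ulAct σ₁) (b := ulAct σ₂) (c := ulAct σ₃) (ulMap i)
    (fun g m => congrArg ULift.up (hi g m.down)) (ulMap p) (fun g m => congrArg ULift.up (hp g m.down)) h1 h2 h3⟩

end exact

end Groth.Agent.Sga4h.H222.ThetaLam
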