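import Groth.Agent.Pi1.H416.PrincDesc
import Groth.Agent.Sga5.H851.ThetaLoc

/-!
# Finite étale torsors under a finite group

`IsTors q ρ`: `q : W ⟶ U` is finite étale surjective and `Γ` acts simply transitively on its geometric fibres.
`IsTors.idx`: for two morphisms `t w : T ⟶ W` over `U`, the locally constant function `T → Γ` with
`w = ρ(idx) ∘ t`.  `IsTors.isRam`: the sheaves `Theta` are exact in the module.
-/

set_option autoImplicit false
set_option linter.unusedVariables false
universe u w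
open CategoryTheory CategoryTheory.Limits AlgebraicGeometry Opposite

namespace Groth.Agent.Sga4h.H222.Tors

open Groth.Agent.Pi1.H416.PrincDesc Groth.Agent.Sga5.H851.FunSheaf Groth.Agent.Sga5.H851
  Groth.Agent.Sga5.H851.ThetaLoc

/-- `q : W ⟶ U` with the action `ρ` of `Γ` is a finite étale torsor. -/
structure IsTors {U W : Scheme.{u}} (q : W ⟶ U) {Γ : Type w} [Group Γ] (ρ : Γ →* Aut W) : Prop where
  inv : ∀ g : Γ, (ρ g).hom ≫ q = q
  fin : IsFinite q
  et : Etale q
  surj : Surjective q
  simple : ∀ (Ω : Type u) [Field Ω] [IsAlgClosed Ω] (s t : Spec (CommRingCat.of Ω) ⟶ W), s ≫ q = t ≫ q →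
    ∃! g : Γ, s ≫ (ρ g).hom = t

variable {U W : Scheme.{u}} {q : W ⟶ U} {Γ : Type w} [Group Γ] {ρ : Γ →* Aut W} (H : IsTors q ρ)

include H

theorem IsTors.exists_unique (z : (pullback q q : Scheme.{u})) :
    ∃! g : Γ, z ∈ Set.range (graph q (ρ g).hom (H.inv g)) := by
  have := H.et
  obtain ⟨Ω, _, _, s, hs⟩ := exists_geomPt (pullback q q) z
  have e1 : (s ≫ pullback.fst q q) ≫ q = (s ≫ pullback.snd q q) ≫ q := by
    rw [Category.assoc, Category.assoc, pullback.condition]
  have e2 : s = pullback.lift (s ≫ pullback.fst q q) (s ≫ pullback.snd q q) e1 := by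
    apply pullback.hom_ext
    · rw [pullback.lift_fst]
    · rw [pullback.lift_snd]
  have key : ∀ g : Γ, z ∈ Set.range (graph q (ρ g).hom (H.inv g)) ↔
      (s ≫ pullback.fst q q) ≫ (ρ g).hom = s ≫ pullback.snd q q := by
    intro g
    rw [← mem_range_graph_iff q (ρ g).hom (H.inv g) _ _ e1 default, ← e2, hs]
  obtain ⟨g, hg, hg'⟩ := H.simple Ω _ _ e1
  exact ⟨g, (key g).2 hg, fun g' h' => hg' g' ((key g').1 h')⟩

variable {T : Scheme.{u}} (t w : T ⟶ W) (h : t ≫ q = w ≫ q)

/-- The value of the index function. -/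
noncomputable def IsTors.idxFun (x : T) : Γ := (H.exists_unique (pullback.lift t w h x)).choose

theorem IsTors.mem_idxFun (x : T) : pullback.lift t w h x ∈
    Set.range (graph q (ρ (H.idxFun t w h x)).hom (H.inv _)) :=
  (H.exists_unique (pullback.lift t w h x)).choose_spec.1

theorem IsTors.idxFun_eq {x : T} {g : Γ} (hg : pullback.lift t w h x ∈
    Set.range (graph q (ρ g).hom (H.inv g))) : H.idxFun t w h x = g :=
  ((H.exists_unique (pullback.lift t w h x)).choose_spec.2 g hg).symm

/-- The index function. -/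
noncomputable def IsTors.idx : LocallyConstant T Γ where
  toFun := H.idxFun t w h
  isLocallyConstant := by
    have := H.et
    intro s
    have h1 : H.idxFun t w h ⁻¹' s = ⋃ g ∈ s, (pullback.lift t w h) ⁻¹'
        Set.range (graph q (ρ g).hom (H.inv g)) := by
      ext x
      simp only [Set.mem_preimage, Set.mem_iUnion]
      constructor
      · intro hx
        exact ⟨_, hx, H.mem_idxFun t w h x⟩
      · rintro ⟨g, hg, hx⟩
        rwa [H.idxFun_eq t w h hx]
    rw [h1]
    refine isOpen_biUnion fun g _ => IsOpen.preimage (pullback.lift t w h).continuous ?_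
    have := isOpenImmersion_graph q (ρ g).hom (H.inv g)
    exact (graph q (ρ g).hom (H.inv g)).isOpenEmbedding.isOpen_range

theorem IsTors.idx_eq_iff {Ω : Type u} [Field Ω] (s : Spec (CommRingCat.of Ω) ⟶ T)
    (x : Spec (CommRingCat.of Ω)) (g : Γ) :
    H.idx t w h (s x) = g ↔ s ≫ t ≫ (ρ g).hom = s ≫ w := by
  have := H.et
  have e1 : (s ≫ t) ≫ q = (s ≫ w) ≫ q := by rw [Category.assoc, Category.assoc, h]
  have e0 : s ≫ pullback.lift t w h = pullback.lift (s ≫ t) (s ≫ w) e1 := by
    apply pullback.hom_ext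
    · rw [Category.assoc, pullback.lift_fst, pullback.lift_fst]
    · rw [Category.assoc, pullback.lift_snd, pullback.lift_snd]
  have e2 : pullback.lift t w h (s x) = pullback.lift (s ≫ t) (s ≫ w) e1 x := by
    rw [← Scheme.Hom.comp_apply, e0]
  have key := mem_range_graph_iff q (ρ g).hom (H.inv g) _ _ e1 x
  rw [← e2, Category.assoc] at key
  rw [← key]
  constructor
  · rintro rfl
    exact H.mem_idxFun t w h (s x)
  · exact H.idxFun_eq t w h

/-- Equality of points from equality at geometric points. -/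
theorem IsTors.idx_spec {Ω : Type u} [Field Ω] (s : Spec (CommRingCat.of Ω) ⟶ T)
    (x : Spec (CommRingCat.of Ω)) : s ≫ t ≫ (ρ (H.idx t w h (s x))).hom = s ≫ w :=
  (H.idx_eq_iff t w h s x _).1 rfl

theorem IsTors.idx_congr {t' w' : T ⟶ W} (ht : t = t') (hw : w = w') (h' : t' ≫ q = w' ≫ q) (x : T) :
    H.idx t w h x = H.idx t' w' h' x := by
  subst ht hw
  rfl

theorem IsTors.idx_comp {T' : Scheme.{u}} (f : T' ⟶ T) (h' : (f ≫ t) ≫ q = (f ≫ w) ≫ q) (x : T') :
    H.idx (f ≫ t) (f ≫ w) h' x = H.idx t w h (f x) := by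
  obtain ⟨Ω, _, _, s, hs⟩ := exists_geomPt T' x
  rw [← hs default, H.idx_eq_iff]
  have h1 := H.idx_spec t w h (s ≫ f) default
  rw [Scheme.Hom.comp_apply] at h1
  simpa only [Category.assoc] using h1

theorem IsTors.idx_act_right (g : Γ) (h' : t ≫ q = (w ≫ (ρ g).hom) ≫ q) (x : T) :
    H.idx t (w ≫ (ρ g).hom) h' x = g * H.idx t w h x := by
  obtain ⟨Ω, _, _, s, hs⟩ := exists_geomPt T x
  rw [← hs default, H.idx_eq_iff, ρ_mul]
  have h1 := H.idx_spec t w h s default
  have h2 := congrArg (· ≫ (ρ g).hom) h1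
  simpa only [Category.assoc] using h2

theorem IsTors.idx_act_left (g : Γ) (h' : (t ≫ (ρ g).hom) ≫ q = w ≫ q) (x : T) :
    H.idx (t ≫ (ρ g).hom) w h' x = H.idx t w h x * g⁻¹ := by
  obtain ⟨Ω, _, _, s, hs⟩ := exists_geomPt T x
  rw [← hs default, H.idx_eq_iff]
  have h1 := H.idx_spec t w h s default
  rw [← h1]
  simp only [Category.assoc]
  rw [← ρ_mul, inv_mul_cancel_right]

theorem IsTors.idx_self (h' : t ≫ q = t ≫ q) (x : T) : H.idx t t h' x = 1 := by
  obtain ⟨Ω, _, _, s, hs⟩ := exists_geomPt T x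
  rw [← hs default, H.idx_eq_iff, ρ_one, Category.comp_id]

/-- Two geometric points in the same fibre. -/
theorem IsTors.isFree {Ω : Type u} [Field Ω] [IsAlgClosed Ω] (s : Spec (CommRingCat.of Ω) ⟶ W) (g : Γ)
    (h : s ≫ (ρ g).hom = s) : g = 1 := by
  obtain ⟨g₀, hg₀, hu⟩ := H.simple Ω s s rfl
  have h1 : s ≫ (ρ 1).hom = s := by rw [ρ_one, Category.comp_id]
  rw [hu g h, hu 1 h1]

theorem IsTors.mem_range_sec_iff {V : U.Etale} (t : V.left ⟶ W) (ht : t ≫ q = V.hom) (g : Γ) (z : P q V) :
    z ∈ Set.range (sec t ht ≫ γ q ρ H.inv V g) ↔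
      H.idx (pf q V ≫ t) (ps q V) (by rw [Category.assoc, ht, (isPullback q V).w]) z = g := by
  constructor
  · rintro ⟨v, rfl⟩
    obtain ⟨Ω, _, _, s, hs⟩ := exists_geomPt V.left v
    rw [← hs default, ← Scheme.Hom.comp_apply, H.idx_eq_iff]
    simp only [Category.assoc, γ_pf_assoc, γ_ps, sec_ps_assoc, sec_pf_assoc]
  · intro h
    obtain ⟨Ω, _, _, s, hs⟩ := exists_geomPt (P q V) z
    rw [← hs default, H.idx_eq_iff] at h
    refine ⟨pf q V z, ?_⟩
    have e : s ≫ pf q V ≫ sec t ht ≫ γ q ρ H.inv V g = s := by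
      apply P_hom_ext
      · simp only [Category.assoc, γ_pf, sec_pf, Category.comp_id]
      · simp only [Category.assoc, γ_ps, sec_ps_assoc]
        simpa only [Category.assoc] using h
    rw [← hs default, ← Scheme.Hom.comp_apply, ← Scheme.Hom.comp_apply, e]

/-- The torsor is trivial over every étale `V` with a morphism to `W`. -/
noncomputable def IsTors.triv {V : U.Etale} (t : V.left ⟶ W) (ht : t ≫ q = V.hom) :
    Triv q ρ H.inv ∅ V where
  t := t
  ht := ht
  isOpen := by
    have := H.et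
    have e1 : Etale (pf q V) := inferInstanceAs (Etale (pullback.fst V.hom q))
    have hE : Etale (sec t ht) := by
      have : Etale (sec t ht ≫ pf q V) := by rw [sec_pf]; infer_instance
      exact Etale.of_comp (sec t ht) (pf q V)
    have hM : Mono (sec t ht) := by
      have : Mono (sec t ht ≫ pf q V) := by rw [sec_pf]; infer_instance
      exact mono_of_mono _ (pf q V)
    have : IsOpenImmersion (sec t ht) := IsOpenImmersion.of_flat_of_mono _
    exact (sec t ht).isOpenEmbedding.isOpen_range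
  uniq z := by
    refine ⟨_, (H.mem_range_sec_iff t ht _ z).2 rfl, fun g' h' => ?_⟩
    exact ((H.mem_range_sec_iff t ht _ z).1 h').symm
  nY z := Set.notMem_empty _

/-- `W` as an object of the small étale site of `U`. -/
noncomputable def IsTors.obj : U.Etale :=
  haveI := H.et
  Scheme.Etale.mk q

theorem IsTors.isRam : IsRam q ρ H.inv ∅ where
  closed V := by
    have := H.fin
    have e1 : IsFinite (pf q V) := inferInstanceAs (IsFinite (pullback.fst V.hom q))
    exact (pf q V).isClosedMap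
  loc x := by
    right
    obtain ⟨w, hw⟩ := H.surj.surj x
    exact ⟨H.obj, w, hw, ⟨H.triv (V := H.obj) (𝟙 W) (Category.id_comp q)⟩⟩

/-- Every point of an étale `V` lies in the image of an étale `V'` with a morphism to `W`. -/
theorem IsTors.exists_cover (V : U.Etale) (v : V.left) :
    ∃ (V' : U.Etale) (β : V' ⟶ V) (v' : V'.left) (t : V'.left ⟶ W), t ≫ q = V'.hom ∧ β.left v' = v := by
  obtain ⟨w, hw⟩ := H.surj.surj (V.hom v)
  obtain ⟨V', β, δ, v', h1, -⟩ := exists_over V H.obj v w hw.symm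
  exact ⟨V', β, v', δ.left, MorphismProperty.Over.w δ, h1⟩

end Groth.Agent.Sga4h.H222.Tors
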