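import Mathlib.RingTheory.SimpleModule.Basic
import Mathlib.RingTheory.SimpleModule.IsAlgClosed
import Mathlib.RingTheory.LittleWedderburn
import Mathlib.LinearAlgebra.Trace
import Mathlib.RingTheory.Trace.Basic
import Mathlib.FieldTheory.Perfect
import Mathlib.FieldTheory.Finite.Basic

/-!
# Additive invariants of modules over a finite-dimensional algebra over a finite field are traces

* `trace_add_of_exact`: additivity of the trace;
* `exists_trace_eq_one`: a simple module has an operator commuting with all endomorphisms, of trace one;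
* `exists_smul_eq_pi`: density for a finite family of pairwise non-isomorphic simple modules;
* `exists_trace_repr`: every additive invariant with values in `Λ` is `M ↦ trace (a | M)` for some `a`.
-/

set_option autoImplicit false

namespace Groth.Agent.Sga4h.H222.TrLin

open Module

/-- Additivity of traces in short exact sequences of vector spaces. -/
theorem trace_add_of_exact {Λ : Type*} [Field Λ] {V₁ V₂ V₃ : Type*} [AddCommGroup V₁] [AddCommGroup V₂]
    [AddCommGroup V₃] [Module Λ V₁] [Module Λ V₂] [Module Λ V₃] [Module.Finite Λ V₂]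
    (i : V₁ →ₗ[Λ] V₂) (p : V₂ →ₗ[Λ] V₃) (hi : Function.Injective i) (hp : Function.Surjective p)
    (hex : Function.Exact i p) (T₁ : V₁ →ₗ[Λ] V₁) (T₂ : V₂ →ₗ[Λ] V₂) (T₃ : V₃ →ₗ[Λ] V₃)
    (h₁ : ∀ v, T₂ (i v) = i (T₁ v)) (h₃ : ∀ v, p (T₂ v) = T₃ (p v)) :
    LinearMap.trace Λ V₂ T₂ = LinearMap.trace Λ V₁ T₁ + LinearMap.trace Λ V₃ T₃ := by
  have : Module.Finite Λ V₁ := Module.Finite.of_injective i hi
  have : Module.Finite Λ V₃ := Module.Finite.of_surjective p hp
  obtain ⟨s, hs⟩ := p.exists_rightInverse_of_surjective (LinearMap.range_eq_top.2 hp)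
  have hs' : ∀ v, p (s v) = v := fun v => LinearMap.congr_fun hs v
  -- the retraction
  have hr : ∀ v, ∃ w, i w = v - s (p v) := fun v => by
    refine (hex (v - s (p v))).1 ?_
    rw [map_sub, hs', sub_self]
  choose r hr using hr
  let R : V₂ →ₗ[Λ] V₁ :=
    { toFun := r
      map_add' := fun x y => hi (by rw [map_add, hr, hr, hr, map_add, map_add]; abel)
      map_smul' := fun c x => hi (by rw [RingHom.id_apply, map_smul, hr, hr, map_smul, map_smul, smul_sub]) }
  have hR : ∀ v, i (R v) = v - s (p v) := hr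
  have hRi : ∀ v, R (i v) = v := fun v => hi (by
    rw [hR, (hex (i v)).2 ⟨v, rfl⟩, map_zero, sub_zero])
  have e : T₂ = (T₂ ∘ₗ i) ∘ₗ R + (T₂ ∘ₗ s) ∘ₗ p := by
    ext v
    simp only [LinearMap.add_apply, LinearMap.comp_apply, hR, map_sub, sub_add_cancel]
  have e1 : R ∘ₗ (T₂ ∘ₗ i) = T₁ := by
    ext v
    simp only [LinearMap.comp_apply, h₁, hRi]
  have e2 : p ∘ₗ (T₂ ∘ₗ s) = T₃ := by
    ext v
    simp only [LinearMap.comp_apply, h₃, hs']
  rw [e, map_add, LinearMap.trace_comp_comm', e1, LinearMap.trace_comp_comm' p, e2]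

section simple

variable {Λ A V : Type*} [Field Λ] [Finite Λ] [Ring A] [Algebra Λ A] [AddCommGroup V] [Module Λ V]
  [Module A V] [IsScalarTower Λ A V] [Module.Finite Λ V] [IsSimpleModule A V]

variable (Λ A V) in
/-- A simple module has an operator commuting with all endomorphisms, of trace one. -/
theorem exists_trace_eq_one :
    ∃ T : V →ₗ[Λ] V, (∀ (d : Module.End A V) (v : V), T (d v) = d (T v)) ∧ LinearMap.trace Λ V T = 1 := by
  classical
  have hfinV : Finite V := Module.finite_of_finite Λ
  have hfinD : Finite (Module.End A V) :=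
    Finite.of_injective (fun f : Module.End A V => (f : V → V)) DFunLike.coe_injective
  have hnV : Nontrivial V := IsSimpleModule.nontrivial A V
  have hfield : IsField (Module.End A V) := Finite.isDomain_to_isField _
  obtain ⟨b, hb⟩ := exists_ne (0 : V)
  let iF : Field (Module.End A V) := hfield.toField
  let iA : Algebra Λ (Module.End A V) := inferInstance
  let iM : Module (Module.End A V) V := inferInstance
  have hfd : FiniteDimensional Λ (Module.End A V) := Module.Finite.of_finite
  have hinj : Function.Injective (LinearMap.toSpanSingleton (Module.End A V) V b) := by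
    rw [← LinearMap.ker_eq_bot, LinearMap.ker_toSpanSingleton]
    exact hb
  obtain ⟨φ, hφ⟩ := LinearMap.exists_leftInverse_of_injective (LinearMap.toSpanSingleton (Module.End A V) V b)
    (LinearMap.ker_eq_bot.2 hinj)
  have hφb : φ b = 1 := by
    have := LinearMap.congr_fun hφ 1
    simpa using this
  obtain ⟨c, hc⟩ := Algebra.trace_surjective Λ (Module.End A V) 1
  have hφd : ∀ (d : Module.End A V) (v : V), φ (d v) = d * φ v := fun d v => φ.map_smul d v
  let P : V →ₗ[Λ] Module.End A V :=
    { toFun := fun v => φ v * c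
      map_add' := fun x y => by rw [map_add, add_mul]
      map_smul' := fun r x => by
        have e : r • x = (algebraMap Λ (Module.End A V) r) x := rfl
        rw [e, hφd, mul_assoc, RingHom.id_apply, Algebra.smul_def] }
  let B : Module.End A V →ₗ[Λ] V :=
    { toFun := fun x => x b
      map_add' := fun x y => rfl
      map_smul' := fun r x => rfl }
  refine ⟨B ∘ₗ P, fun d v => ?_, ?_⟩
  · change (φ (d v) * c) b = d ((φ v * c) b)
    rw [hφd, mul_assoc]
    rfl
  · rw [LinearMap.trace_comp_comm', ← hc, Algebra.trace_apply]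
    refine congrArg _ (LinearMap.ext fun x => ?_)
    change φ (x b) * c = c * x
    rw [hφd, hφb, mul_one, mul_comm]

end simple

section density

variable {A : Type*} [Ring A] {ι : Type*} [Fintype ι] [DecidableEq ι] {V : ι → Type*}
  [∀ i, AddCommGroup (V i)] [∀ i, Module A (V i)] [∀ i, IsSimpleModule A (V i)]

/-- Density for a family of pairwise non-isomorphic simple modules. -/
theorem exists_smul_eq_pi (hne : ∀ i j, Nonempty (V i ≃ₗ[A] V j) → i = j)
    (T : ∀ i, V i → V i) (hadd : ∀ i x y, T i (x + y) = T i x + T i y)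
    (hT : ∀ i (d : Module.End A (V i)) (v : V i), T i (d v) = d (T i v)) (s : Finset (∀ i, V i)) :
    ∃ a : A, ∀ v ∈ s, ∀ i, a • v i = T i (v i) := by
  have key : ∀ (φ : Module.End A (∀ i, V i)) (w : ∀ i, V i) (i : ι),
      φ w i = φ (Pi.single i (w i)) i := by
    intro φ w i
    conv_lhs => rw [← Finset.univ_sum_single w]
    rw [map_sum, Finset.sum_apply]
    refine Finset.sum_eq_single i (fun j _ hj => ?_) (fun h => absurd (Finset.mem_univ i) h)
    let ψ : V j →ₗ[A] V i := (LinearMap.proj i) ∘ₗ φ ∘ₗ (LinearMap.single A V j)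
    rcases LinearMap.bijective_or_eq_zero ψ with h | h
    · exact absurd (hne j i ⟨LinearEquiv.ofBijective ψ h⟩) hj
    · exact LinearMap.congr_fun h (w j)
  let f : Module.End (Module.End A (∀ i, V i)) (∀ i, V i) :=
    { toFun := fun w i => T i (w i)
      map_add' := fun x y => by
        funext i
        exact hadd i _ _
      map_smul' := fun φ w => by
        funext i
        change T i (φ w i) = φ (fun i => T i (w i)) i
        rw [key φ w i, key φ (fun i => T i (w i)) i]
        exact hT i ((LinearMap.proj i) ∘ₗ φ ∘ₗ (LinearMap.single A V i)) (w i) }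
  obtain ⟨a, ha⟩ := jacobson_density (R := A) f s
  exact ⟨a, fun v hv i => (congrFun (ha v hv) i).symm⟩

end density

section repr

variable {Λ A : Type} [Field Λ] [Finite Λ] [Ring A] [Algebra Λ A] [Module.Finite Λ A]

/-- The type of `Λ`-valued functions on finite `A`-modules. -/
abbrev Inv (Λ A : Type) [Field Λ] [Ring A] [Algebra Λ A] : Type 1 :=
  ∀ (M : Type) [AddCommGroup M] [Module Λ M] [Module A M] [IsScalarTower Λ A M] [Module.Finite Λ M], Λ

/-- Additivity in short exact sequences. -/
def IsAdditive (D : Inv Λ A) : Prop :=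
  ∀ (M₁ M₂ M₃ : Type) [AddCommGroup M₁] [AddCommGroup M₂] [AddCommGroup M₃] [Module Λ M₁] [Module Λ M₂]
    [Module Λ M₃] [Module A M₁] [Module A M₂] [Module A M₃] [IsScalarTower Λ A M₁] [IsScalarTower Λ A M₂]
    [IsScalarTower Λ A M₃] [Module.Finite Λ M₁] [Module.Finite Λ M₂] [Module.Finite Λ M₃]
    (i : M₁ →ₗ[A] M₂) (p : M₂ →ₗ[A] M₃), Function.Injective i → Function.Exact i p →
    Function.Surjective p → D M₂ = D M₁ + D M₃

variable {D : Inv Λ A}

omit [Finite Λ] [Module.Finite Λ A]

theorem IsAdditive.punit (h : IsAdditive D) : D PUnit = 0 := by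
  have := h PUnit PUnit PUnit LinearMap.id LinearMap.id Function.injective_id
    (fun x => ⟨fun _ => ⟨x, rfl⟩, fun _ => Subsingleton.elim _ _⟩) Function.surjective_id
  simpa using this

theorem IsAdditive.iso (h : IsAdditive D) {M N : Type} [AddCommGroup M] [Module Λ M] [Module A M]
    [IsScalarTower Λ A M] [Module.Finite Λ M] [AddCommGroup N] [Module Λ N] [Module A N]
    [IsScalarTower Λ A N] [Module.Finite Λ N] (e : M ≃ₗ[A] N) : D M = D N := by
  have := h PUnit M N 0 e.toLinearMap (fun x y _ => Subsingleton.elim x y)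
    (fun x => ⟨fun hx => ⟨0, by
      have hx' : e x = 0 := hx
      rw [map_zero]
      exact (e.map_eq_zero_iff.1 hx').symm⟩, by
      rintro ⟨y, rfl⟩
      simp⟩) e.surjective
  rw [this, h.punit, zero_add]

theorem IsAdditive.subsingleton (h : IsAdditive D) (M : Type) [AddCommGroup M] [Module Λ M] [Module A M]
    [IsScalarTower Λ A M] [Module.Finite Λ M] [Subsingleton M] : D M = 0 := by
  rw [h.iso (N := PUnit) (LinearEquiv.ofBijective 0 ⟨fun x y _ => Subsingleton.elim x y,
    fun x => ⟨0, Subsingleton.elim _ _⟩⟩), h.punit]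

/-- The trace of the action of `a`. -/
noncomputable def tr (Λ : Type) {A : Type} [Field Λ] [Ring A] [Algebra Λ A] (a : A) (M : Type)
    [AddCommGroup M] [Module Λ M] [Module A M] [IsScalarTower Λ A M] : Λ :=
  LinearMap.trace Λ M (Algebra.lsmul Λ Λ M a)

theorem tr_add (a : A) (M₁ M₂ M₃ : Type) [AddCommGroup M₁] [AddCommGroup M₂] [AddCommGroup M₃]
    [Module Λ M₁] [Module Λ M₂] [Module Λ M₃] [Module A M₁] [Module A M₂] [Module A M₃]
    [IsScalarTower Λ A M₁] [IsScalarTower Λ A M₂] [IsScalarTower Λ A M₃] [Module.Finite Λ M₂]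
    (i : M₁ →ₗ[A] M₂) (p : M₂ →ₗ[A] M₃) (hi : Function.Injective i) (hex : Function.Exact i p)
    (hp : Function.Surjective p) : tr Λ a M₂ = tr Λ a M₁ + tr Λ a M₃ :=
  trace_add_of_exact (i.restrictScalars Λ) (p.restrictScalars Λ) hi hp hex _ _ _
    (fun v => (map_smul i a v).symm) (fun v => map_smul p a v)

theorem tr_iso (a : A) {M N : Type} [AddCommGroup M] [Module Λ M] [Module A M] [IsScalarTower Λ A M]
    [AddCommGroup N] [Module Λ N] [Module A N] [IsScalarTower Λ A N] (e : M ≃ₗ[A] N) :
    tr Λ a M = tr Λ a N := by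
  rw [tr, tr, ← LinearMap.trace_conj' (Algebra.lsmul Λ Λ M a) (e.restrictScalars Λ)]
  refine congrArg _ (LinearMap.ext fun x => ?_)
  rw [LinearEquiv.conj_apply]
  change e (a • e.symm x) = a • x
  rw [map_smul, LinearEquiv.apply_symm_apply]

variable [Finite Λ] [Module.Finite Λ A]

/-- Every additive invariant is the trace of some element, given representatives of the simple modules. -/
theorem exists_trace_repr_aux (h : IsAdditive D) {κ : Type} [Fintype κ] (V : κ → Type)
    [∀ k, AddCommGroup (V k)] [∀ k, Module Λ (V k)] [∀ k, Module A (V k)] [∀ k, IsScalarTower Λ A (V k)]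
    [∀ k, Module.Finite Λ (V k)] [∀ k, IsSimpleModule A (V k)]
    (hne : ∀ i j, Nonempty (V i ≃ₗ[A] V j) → i = j)
    (hall : ∀ (M : Type) [AddCommGroup M] [Module A M] [IsSimpleModule A M], ∃ k, Nonempty (M ≃ₗ[A] V k)) :
    ∃ a : A, ∀ (M : Type) [AddCommGroup M] [Module Λ M]
      [Module A M] [IsScalarTower Λ A M] [Module.Finite Λ M], D M = tr Λ a M := by
  classical
  choose T hT hT1 using fun k => exists_trace_eq_one Λ A (V k)
  have : ∀ k, Finite (V k) := fun k => Module.finite_of_finite Λ
  have : Fintype (∀ k, V k) := Fintype.ofFinite _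
  obtain ⟨a, ha⟩ := exists_smul_eq_pi hne (fun k v => D (V k) • T k v)
    (fun k x y => by simp only [map_add, smul_add])
    (fun k d v => by
      generalize D (V k) = c
      rw [hT, ← algebraMap_smul A c (T k v), map_smul, algebraMap_smul]) (Finset.univ : Finset (∀ k, V k))
  have hV : ∀ k, D (V k) = tr Λ a (V k) := by
    intro k
    have e : Algebra.lsmul Λ Λ (V k) a = D (V k) • T k := by
      ext v
      have := ha (Pi.single k v) (Finset.mem_univ _) k
      simpa using this
    rw [tr, e, map_smul, hT1, smul_eq_mul, mul_one]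
  refine ⟨a, ?_⟩
  have main : ∀ (n : ℕ) (M : Type) [AddCommGroup M] [Module Λ M]
      [Module A M] [IsScalarTower Λ A M] [Module.Finite Λ M], Nat.card M ≤ n → D M = tr Λ a M := by
    intro n
    induction n with
    | zero =>
      intro M _ _ _ _ _ hM
      have : Finite M := Module.finite_of_finite Λ
      have : 0 < Nat.card M := Nat.card_pos
      omega
    | succ n ih =>
      intro M _ _ _ _ _ hM
      have hfM : Finite M := Module.finite_of_finite Λ
      rcases subsingleton_or_nontrivial M with hs | hn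
      · rw [h.subsingleton M, tr]
        have : Algebra.lsmul Λ Λ M a = 0 := LinearMap.ext fun x => Subsingleton.elim _ _
        rw [this, map_zero]
      · have hfS : Finite (Submodule A M) :=
          Finite.of_injective (fun I => (I : Set M)) SetLike.coe_injective
        obtain ⟨N, hN⟩ := IsAtomic.exists_atom (Submodule A M)
        have hNs : IsSimpleModule A N := isSimpleModule_iff_isAtom.2 hN
        obtain ⟨k, ⟨e⟩⟩ := hall N
        have h1 := h N M (M ⧸ N) N.subtype N.mkQ N.injective_subtype
          (LinearMap.exact_subtype_mkQ N) N.mkQ_surjective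
        have h2 := tr_add (Λ := Λ) a N M (M ⧸ N) N.subtype N.mkQ N.injective_subtype
          (LinearMap.exact_subtype_mkQ N) N.mkQ_surjective
        rw [h1, h2, h.iso e, tr_iso (Λ := Λ) a e, hV k]
        refine congrArg _ (ih _ ?_)
        have hcard : Nat.card M = Nat.card N * Nat.card (M ⧸ N) := N.card_eq_card_quotient_mul_card
        have hN1 : 1 < Nat.card N := by
          have := IsSimpleModule.nontrivial A N
          exact Finite.one_lt_card
        have hfq : Finite (M ⧸ N) := Finite.of_surjective _ N.mkQ_surjective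
        have hq : 0 < Nat.card (M ⧸ N) := Nat.card_pos
        nlinarith
  intro M _ _ _ _ _
  exact main _ M le_rfl

/-- Every additive invariant is the trace of some element. -/
theorem exists_trace_repr (h : IsAdditive D) : ∃ a : A, ∀ (M : Type) [AddCommGroup M] [Module Λ M]
    [Module A M] [IsScalarTower Λ A M] [Module.Finite Λ M], D M = tr Λ a M := by
  classical
  have hA : Finite A := Module.finite_of_finite Λ
  have hS : Finite (Submodule A A) := Finite.of_injective (fun I => (I : Set A)) SetLike.coe_injective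
  let J : Type := {I : Submodule A A // IsSimpleModule A (A ⧸ I)}
  let r : Setoid J :=
    { r := fun I I' => Nonempty ((A ⧸ I.1) ≃ₗ[A] (A ⧸ I'.1))
      iseqv := ⟨fun _ => ⟨LinearEquiv.refl _ _⟩, fun ⟨e⟩ => ⟨e.symm⟩, fun ⟨e⟩ ⟨e'⟩ => ⟨e.trans e'⟩⟩ }
  have : Fintype (Quotient r) := Fintype.ofFinite _
  have hsimple : ∀ k : Quotient r, IsSimpleModule A (A ⧸ (k.out).1) := fun k => (k.out).2
  have hne : ∀ i j : Quotient r, Nonempty ((A ⧸ (i.out).1) ≃ₗ[A] (A ⧸ (j.out).1)) → i = j := by
    intro i j hij
    have h1 : i.out ≈ j.out := hij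
    have h2 := Quotient.sound h1
    rwa [Quotient.out_eq, Quotient.out_eq] at h2
  refine exists_trace_repr_aux h (fun k : Quotient r => A ⧸ (k.out).1) hne ?_
  intro M _ _ hM
  obtain ⟨I, hI, ⟨e⟩⟩ := isSimpleModule_iff_quot_maximal.1 hM
  have hI' : IsSimpleModule A (A ⧸ I) := IsSimpleModule.congr e.symm
  let j : J := ⟨I, hI'⟩
  obtain ⟨e2⟩ : Nonempty ((A ⧸ ((Quotient.mk r j).out).1) ≃ₗ[A] (A ⧸ j.1)) :=
    Quotient.exact (Quotient.out_eq (Quotient.mk r j))
  exact ⟨Quotient.mk r j, ⟨e.trans e2.symm⟩⟩

end repr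

end Groth.Agent.Sga4h.H222.TrLin
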